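import Groth.Agent.H13Desc.EtAssocSheaf.Sheaf

/-!
# Descent of sections along a surjection of affine étale schemes, and the sheaf
-/

set_option autoImplicit false
set_option linter.style.haveILetI false
set_option backward.isDefEq.respectTransparency false
set_option backward.isDefEq.respectTransparency.types false

universe u

open CategoryTheory CategoryTheory.Limits AlgebraicGeometry Opposite TopologicalSpace
open scoped TensorProduct

noncomputable section

namespace Groth.Agent.H13Desc.EtSh

open Groth.Agent.H18Et.AffineCriterion (openObj openHom mem_zariski_iff etale_of_hom)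

variable {S : Scheme.{u}} (F : S.Modules)

lemma appTop_specLift {R : CommRingCat.{u}} {V : Scheme.{u}} [IsAffine V] (i : Γ(V, ⊤) ⟶ R) :
    (Spec.map i ≫ V.isoSpec.inv).appTop ≫ (Scheme.ΓSpecIso R).hom = i := by
  have h1 : V.isoSpec.inv.appTop = (Scheme.ΓSpecIso Γ(V, ⊤)).inv := by
    rw [← cancel_mono V.isoSpec.hom.appTop, ← Scheme.Hom.comp_appTop, Iso.hom_inv_id,
      Scheme.isoSpec_hom, Scheme.toSpecΓ_appTop]
    simp
  rw [Scheme.Hom.comp_appTop, h1, Category.assoc, Scheme.ΓSpecIso_naturality, Iso.inv_hom_id_assoc]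

set_option maxHeartbeats 1600000 in
/-- Sections equalised by all pairs of maps to a surjective affine étale scheme come from the base. -/
theorem exists_descend [F.IsQuasicoherent] {U V : S.Etale} [IsAffine U.left] [IsAffine V.left]
    (f : V ⟶ U) [Surjective f.left] (x : Γ(Inv F V.hom, ⊤))
    (hx : ∀ (T : S.Etale) (a b : T ⟶ V), a ≫ f = b ≫ f → rmE F a x = rmE F b x) :
    Function.Injective (rmE F f) ∧ ∃ t, rmE F f t = x := by
  haveI := etale_of_hom f
  let A := Γ(U.left, ⊤)
  let B := Γ(V.left, ⊤)
  let N := Γ(Inv F U.hom, ⊤)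
  let σA : A →+* B := f.left.appTop.hom
  letI := σA.toAlgebra
  haveI : Module.FaithfullyFlat A B :=
    RingHom.faithfullyFlat_algebraMap_iff.1 ((Flat.flat_and_surjective_iff_faithfullyFlat_of_isAffine f.left).1
      ⟨inferInstance, inferInstance⟩)
  obtain ⟨e, he⟩ := (isBC_rm F f.left U.hom V.hom (MorphismProperty.Over.w f)).exists_equiv
  have he1 : ∀ n : N, rmE F f n = e (1 ⊗ₜ n) := fun n => by rw [he, one_smul]
  refine ⟨fun n n' hn => ?_, ?_⟩
  · rw [he1, he1] at hn
    exact Module.FaithfullyFlat.tensorProduct_mk_injective (A := A) (B := B) N (e.injective hn)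
  · let Wl := pullback f.left f.left
    let W : S.Etale := MorphismProperty.Over.mk ⊤ (pullback.fst f.left f.left ≫ V.hom)
      (haveI : Etale V.hom := V.prop; inferInstanceAs (Etale (_ ≫ _)))
    let p₁ : W ⟶ V := MorphismProperty.Over.homMk (pullback.fst _ _) rfl trivial
    let p₂ : W ⟶ V := MorphismProperty.Over.homMk (pullback.snd _ _) (by
      change _ = pullback.fst _ _ ≫ V.hom
      rw [← MorphismProperty.Over.w f, ← pullback.condition_assoc]) trivial
    have hp : p₁ ≫ f = p₂ ≫ f := MorphismProperty.Over.Hom.ext pullback.condition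
    haveI : IsAffine W.left := inferInstanceAs (IsAffine (pullback f.left f.left))
    let C := Γ(W.left, ⊤)
    let σC : A →+* C := (p₁ ≫ f).left.appTop.hom
    letI := σC.toAlgebra
    obtain ⟨eW, heW⟩ := (isBC_rm F (p₁ ≫ f).left U.hom W.hom (MorphismProperty.Over.w _)).exists_equiv
    let φ₁ : B →ₐ[A] C :=
      { toRingHom := p₁.left.appTop.hom
        commutes' := fun a => rfl }
    let φ₂ : B →ₐ[A] C :=
      { toRingHom := p₂.left.appTop.hom
        commutes' := fun a => congr($(congrArg (fun m : W ⟶ U => m.left.appTop) hp.symm) a) }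
    have key : ∀ (p : W ⟶ V) (φ : B →ₐ[A] C), p ≫ f = p₁ ≫ f → (∀ b, φ b = p.left.appTop b) →
        ∀ z : B ⊗[A] N, rmE F p (e z) = eW (φ.toLinearMap.rTensor N z) := by
      intro p φ hpf hφ z
      induction z using TensorProduct.induction_on with
      | zero => simp
      | add a b ha hb => simp only [map_add, ha, hb]
      | tmul b n =>
        rw [LinearMap.rTensor_tmul, he, heW]
        refine (rm_smul F p.left V.hom W.hom _ b _).trans ?_
        rw [← hφ]
        congr 1
        refine (rmE_comp F f p n).trans ?_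
        rw [hpf]
    obtain ⟨z, rfl⟩ := e.surjective x
    have h12 : φ₁.toLinearMap.rTensor N z = φ₂.toLinearMap.rTensor N z :=
      eW.injective (((key p₁ φ₁ rfl (fun _ => rfl) z).symm.trans (hx W p₁ p₂ hp)).trans
        (key p₂ φ₂ hp.symm (fun _ => rfl) z))
    let iL : B ⟶ CommRingCat.of (B ⊗[A] B) := CommRingCat.ofHom Algebra.TensorProduct.includeLeftRingHom
    let iR : B ⟶ CommRingCat.of (B ⊗[A] B) :=
      CommRingCat.ofHom (Algebra.TensorProduct.includeRight (R := A) (A := B) (B := B)).toRingHom
    have hLR : f.left.appTop ≫ iL = f.left.appTop ≫ iR :=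
      CommRingCat.hom_ext (RingHom.ext fun a => Algebra.TensorProduct.tmul_one_eq_one_tmul a)
    let L : Spec (CommRingCat.of (B ⊗[A] B)) ⟶ W.left :=
      pullback.lift (Spec.map iL ≫ V.left.isoSpec.inv) (Spec.map iR ≫ V.left.isoSpec.inv) (by
        rw [Category.assoc, Category.assoc, ← Scheme.isoSpec_inv_naturality, ← Spec.map_comp_assoc,
          ← Spec.map_comp_assoc, hLR])
    let ψ : C ⟶ CommRingCat.of (B ⊗[A] B) := L.appTop ≫ (Scheme.ΓSpecIso _).hom
    have hψ₁ : p₁.left.appTop ≫ ψ = iL := by
      change (pullback.fst f.left f.left).appTop ≫ L.appTop ≫ _ = iL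
      rw [← Scheme.Hom.comp_appTop_assoc, pullback.lift_fst, appTop_specLift]
    have hψ₂ : p₂.left.appTop ≫ ψ = iR := by
      change (pullback.snd f.left f.left).appTop ≫ L.appTop ≫ _ = iR
      rw [← Scheme.Hom.comp_appTop_assoc, pullback.lift_snd, appTop_specLift]
    let ψ' : C →ₐ[A] B ⊗[A] B :=
      { toRingHom := ψ.hom
        commutes' := fun a => congr($hψ₁ (σA a)) }
    have hz : H14QCoh.amitsurDiff A B N z = 0 := by
      have h3 := congrArg (fun t => TensorProduct.assoc A B B N (ψ'.toLinearMap.rTensor N t)) h12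
      have hd : ∀ z : B ⊗[A] N, H14QCoh.amitsurDiff A B N z =
          TensorProduct.assoc A B B N (ψ'.toLinearMap.rTensor N (φ₁.toLinearMap.rTensor N z)) -
            TensorProduct.assoc A B B N (ψ'.toLinearMap.rTensor N (φ₂.toLinearMap.rTensor N z)) := by
        intro z
        induction z using TensorProduct.induction_on with
        | zero => simp
        | add a b ha hb => simp only [map_add, ha, hb]; abel
        | tmul b n =>
          have e1 : ψ' (φ₁ b) = b ⊗ₜ[A] (1 : B) := congr($hψ₁ b)
          have e2 : ψ' (φ₂ b) = (1 : B) ⊗ₜ[A] b := congr($hψ₂ b)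
          rw [H14QCoh.amitsurDiff_tmul, LinearMap.rTensor_tmul, LinearMap.rTensor_tmul, LinearMap.rTensor_tmul,
            LinearMap.rTensor_tmul, AlgHom.toLinearMap_apply, AlgHom.toLinearMap_apply, AlgHom.toLinearMap_apply,
            AlgHom.toLinearMap_apply, e1, e2, TensorProduct.assoc_tmul, TensorProduct.assoc_tmul]
      rw [hd, sub_eq_zero]
      exact h3
    obtain ⟨t, ht⟩ := H14QCoh.exists_of_amitsurDiff_eq_zero hz
    exact ⟨t, by rw [he1, ht]⟩

/-- The presheaf of sections of inverse images is an étale sheaf. -/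
theorem isSheaf [F.IsQuasicoherent] : Presheaf.IsSheaf S.smallEtaleTopology (psh F) := by
  refine Presheaf.isSheaf_of_isSheaf_comp _ _ (CategoryTheory.forget AddCommGrpCat.{u + 1}) ?_
  rw [isSheaf_iff_isSheaf_of_type]
  refine H18Et.AffineCriterion.isSheaf (isSheaf_zariski F) fun U V _ _ f _ => ?_
  rw [Presieve.isSheafFor_singleton]
  intro x hx
  obtain ⟨hinj, t, ht⟩ := exists_descend F f x.down fun T a b e => congrArg ULift.down (hx a b e)
  exact ⟨ULift.up t, ULift.ext _ _ ht,
    fun t' ht' => ULift.ext _ _ (hinj ((congrArg ULift.down ht').trans ht.symm))⟩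

/-- The associated étale sheaf. -/
theorem exists_isAssoc [F.IsQuasicoherent] : ∃ G : EtCoh.Ab S, EtAssoc.IsAssoc F G :=
  ⟨⟨psh F, isSheaf F⟩, fun U => AddEquiv.refl _, fun _ _ g s => (resMap_eq F g s.down).symm⟩

end Groth.Agent.H13Desc.EtSh
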