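import Groth.Agent.H13Desc.EtAssocSheaf.Affine
import Groth.Agent.H9Et.GaZariski

/-!
# The big étale sheaf of sections of inverse images, and its Zariski and étale cohomology
-/

set_option autoImplicit false
set_option linter.style.haveILetI false
set_option backward.isDefEq.respectTransparency false
set_option backward.isDefEq.respectTransparency.types false

universe u

open CategoryTheory CategoryTheory.Limits AlgebraicGeometry Opposite TopologicalSpace MorphismProperty
open scoped TensorProduct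

noncomputable section

namespace Groth.Agent.H13Desc.EtSh

open Groth.Agent.H9Et Adeq Groth.Agent.H02CA.Adq

variable {S : Scheme.{u}} (F : S.Modules)

/-- Restriction along a morphism over the base. -/
abbrev rmO {U V : Over S} (g : V ⟶ U) : Γ(Inv F U.hom, ⊤) →+ Γ(Inv F V.hom, ⊤) :=
  rm F g.left U.hom V.hom (Over.w g)

lemma rmO_id (U : Over S) (x : Γ(Inv F U.hom, ⊤)) : rmO F (𝟙 U) x = x := rm_id F U.hom x

lemma rmO_comp {U V T : Over S} (g : V ⟶ U) (h : T ⟶ V) (x : Γ(Inv F U.hom, ⊤)) :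
    rmO F h (rmO F g x) = rmO F (h ≫ g) x := rm_rm F g.left U.hom V.hom _ h.left T.hom _ x

/-- The presheaf `T ↦ Γ(T, t^* F)` on schemes over `S`, one universe up. -/
def bigPsh : (Over S)ᵒᵖ ⥤ AddCommGrpCat.{u + 1} where
  obj U := AddCommGrpCat.of (ULift.{u + 1} Γ(Inv F U.unop.hom, ⊤))
  map g := AddCommGrpCat.ofHom
    (AddEquiv.ulift.symm.toAddMonoidHom.comp ((rmO F g.unop).comp AddEquiv.ulift.toAddMonoidHom))
  map_id U := by
    ext x
    exact rmO_id F U.unop x.down
  map_comp g h := by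
    ext x
    exact (rmO_comp F g.unop h.unop x.down).symm

/-- A scheme étale over an object, as an object over the base. -/
abbrev aOf {T : Over S} (V : T.left.Etale) : Over S := Over.mk (V.hom ≫ T.hom)

variable {T : Over S}

/-- Sections of an iterated inverse image. -/
def θ (V : T.left.Etale) : Γ(Inv (Inv F T.hom) V.hom, ⊤) →+ Γ(Inv F (aOf V).hom, ⊤) :=
  ((tr F V.hom T.hom (V.hom ≫ T.hom) rfl).app ⊤).hom

lemma bijective_θ (V : T.left.Etale) : Function.Bijective (θ F V) :=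
  H17.PullSect.bijective_app _ _

lemma rm_top (V : T.left.Etale) (x : Γ(Inv F T.hom, ⊤)) :
    θ F V (OmegaSh.pullSect V.hom (Inv F T.hom) ⊤ x) = rmO F (Over.homMk V.hom rfl : aOf V ⟶ T) x := by
  refine Eq.symm ((σ_apply F V.hom T.hom (V.hom ≫ T.hom) rfl ⊤ le_rfl x).trans ?_)
  exact congrArg _ (congr($(((Scheme.Modules.pullback V.hom).obj (Inv F T.hom)).presheaf.map_id (op ⊤))
    (OmegaSh.pullSect V.hom (Inv F T.hom) ⊤ x)))

lemma tr_tr {W V T : Scheme.{u}} (g : W ⟶ V) (a : V ⟶ T) (t : T ⟶ S) (b : W ⟶ T) (e : g ≫ a = b) :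
    tr (Inv F t) g a b e ≫ tr F b t (b ≫ t) rfl =
      (Scheme.Modules.pullback g).map (tr F a t (a ≫ t) rfl) ≫
        tr F g (a ≫ t) (b ≫ t) (by rw [← Category.assoc, e]) := by
  subst e
  have as := congr($(Scheme.Modules.pseudofunctor_associativity g a t).app F)
  simp only [NatTrans.comp_app, Functor.whiskerRight_app, Functor.whiskerLeft_app, Functor.associator_hom_app,
    eqToHom_app] at as
  erw [Category.id_comp] at as
  simp only [tr, eqToHom_refl]
  erw [Category.comp_id, Category.comp_id, Category.comp_id, Category.comp_id]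
  rw [← cancel_epi ((Scheme.Modules.pullback g).map ((Scheme.Modules.pullbackComp a t).inv.app F)),
    ← Functor.map_comp_assoc, Iso.inv_hom_id_app]
  erw [CategoryTheory.Functor.map_id, Category.id_comp]
  rw [← cancel_epi ((Scheme.Modules.pullbackComp g (a ≫ t)).inv.app F), Iso.inv_hom_id_app]
  exact as

lemma rm_apply {U V : Scheme.{u}} (G : S.Modules) (g : V ⟶ U) (u : U ⟶ S) (v : V ⟶ S) (e : g ≫ u = v)
    (x : Γ(Inv G u, ⊤)) : rm G g u v e x = (tr G g u v e).app ⊤ (OmegaSh.pullSect g (Inv G u) ⊤ x) := by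
  rw [σ_apply]
  exact congrArg _ (congr($(((Scheme.Modules.pullback g).obj (Inv G u)).presheaf.map_id (op ⊤))
    (OmegaSh.pullSect g (Inv G u) ⊤ x)))

lemma tr_rm {W V T : Scheme.{u}} (g : W ⟶ V) (a : V ⟶ T) (t : T ⟶ S) (b : W ⟶ T) (e : g ≫ a = b)
    (y : Γ(Inv (Inv F t) a, ⊤)) :
    (tr F b t (b ≫ t) rfl).app ⊤ (rm (Inv F t) g a b e y) =
      rm F g (a ≫ t) (b ≫ t) (by rw [← Category.assoc, e]) ((tr F a t (a ≫ t) rfl).app ⊤ y) := by
  rw [rm_apply, rm_apply, H17.PullSect.pullSect_natural g (tr F a t (a ≫ t) rfl) ⊤ y]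
  exact congrArg (fun φ => Scheme.Modules.Hom.app φ ⊤ (OmegaSh.pullSect g (Inv (Inv F t) a) ⊤ y))
    (tr_tr F g a t b e)

lemma θ_rm {V W : T.left.Etale} (g : W ⟶ V) (y : Γ(Inv (Inv F T.hom) V.hom, ⊤)) :
    θ F W (rmE (Inv F T.hom) g y) =
      rm F g.left (V.hom ≫ T.hom) (W.hom ≫ T.hom) (by rw [← Category.assoc, MorphismProperty.Over.w g])
        (θ F V y) :=
  tr_rm F g.left V.hom T.hom W.hom (MorphismProperty.Over.w g) y

variable [F.IsQuasicoherent]

/-- Sections of an étale sheaf glue along a jointly surjective family of étale schemes. -/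
theorem existsUnique_small {X : Scheme.{u}} (M : X.Modules) [M.IsQuasicoherent] {κ : Type*} (Y : κ → X.Etale)
    (f : ∀ i, Y i ⟶ EtCoh.top X) (hc : ∀ x : X, ∃ i, x ∈ Set.range (f i).left)
    (y : ∀ i, Γ(Inv M (Y i).hom, ⊤))
    (h : ∀ i j (Z : X.Etale) (a : Z ⟶ Y i) (b : Z ⟶ Y j), a ≫ f i = b ≫ f j →
      rmE M a (y i) = rmE M b (y j)) :
    ∃! s : Γ(Inv M (EtCoh.top X).hom, ⊤), ∀ i, rmE M (f i) s = y i := by
  have hR : Sieve.generate (Presieve.ofArrows Y f) ∈ X.smallEtaleTopology (EtCoh.top X) := by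
    refine H18Et.mem_topology_of_forall_point _ fun z => ?_
    obtain ⟨i, w, hw⟩ := hc z
    exact ⟨Y i, f i, w, Sieve.le_generate _ _ _ (Presieve.ofArrows.mk i), hw⟩
  have hsheaf := (isSheaf_iff_isSheaf_of_type _ _).1
    ((Presheaf.isSheaf_iff_isSheaf_forget _ _ (CategoryTheory.forget AddCommGrpCat.{u + 1})).1
      (isSheaf M)) _ hR
  rw [← Presieve.isSheafFor_iff_generate, Presieve.isSheafFor_arrows_iff] at hsheaf
  obtain ⟨s, hs, hu⟩ := hsheaf (fun i => ULift.up (y i))
    (fun i j Z a b hab => ULift.ext _ _ (h i j Z a b hab))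
  exact ⟨s.down, fun i => congrArg ULift.down (hs i),
    fun t ht => congrArg ULift.down (hu (ULift.up t) fun i => ULift.ext _ _ (ht i))⟩

variable {κ : Type*} (Y : κ → T.left.Etale)

/-- The arrows of a covering of an object by étale schemes over it. -/
abbrev covArr (i : κ) : aOf (Y i) ⟶ T := Over.homMk (Y i).hom rfl

lemma θ_top (i : κ) (f : Y i ⟶ EtCoh.top T.left) (w : Γ(Inv F T.hom, ⊤)) :
    θ F (Y i) (rmE (Inv F T.hom) f (OmegaSh.pullSect (EtCoh.top T.left).hom (Inv F T.hom) ⊤ w)) =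
      rmO F (covArr Y i) w := by
  rw [θ_rm]
  refine (congrArg _ (rm_top F (EtCoh.top T.left) w)).trans ?_
  refine (rm_rm F _ _ _ _ _ _ _ w).trans ?_
  refine σ_congr F _ _ _ _ ?_ ⊤ le_rfl le_rfl w
  exact (MorphismProperty.Over.w f)

/-- Sections descend along étale coverings. -/
theorem isSheafFor_cover (hc : ∀ x : T.left, ∃ i, x ∈ Set.range (Y i).hom) :
    Presieve.IsSheafFor (bigPsh F ⋙ CategoryTheory.forget AddCommGrpCat.{u + 1})
      (Presieve.ofArrows (fun i => aOf (Y i)) (covArr Y)) := by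
  haveI : (Inv F T.hom).IsQuasicoherent := H29Fitt.isQCoh_pullback T.hom F inferInstance
  rw [Presieve.isSheafFor_arrows_iff]
  intro x hx
  let top : T.left.Etale := EtCoh.top T.left
  let f : ∀ i, Y i ⟶ top := fun i =>
    MorphismProperty.Over.homMk (Y i).hom (Category.comp_id _) trivial
  choose y hy using fun i => (bijective_θ F (Y i)).2 (x i).down
  have hx' : ∀ i j (W : Scheme.{u}) (w : W ⟶ S) (a : W ⟶ (Y i).left) (b : W ⟶ (Y j).left)
      (ha : a ≫ (Y i).hom ≫ T.hom = w) (hb : b ≫ (Y j).hom ≫ T.hom = w),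
      a ≫ (Y i).hom = b ≫ (Y j).hom →
      rm F a ((Y i).hom ≫ T.hom) w ha (x i).down = rm F b ((Y j).hom ≫ T.hom) w hb (x j).down := by
    intro i j W w a b ha hb e
    exact congrArg ULift.down (hx i j (Over.mk w) (Over.homMk a ha) (Over.homMk b hb)
      (Over.OverMorphism.ext e))
  obtain ⟨s, hs, hsu⟩ := existsUnique_small (Inv F T.hom) Y f
    (fun z => by obtain ⟨i, w, hw⟩ := hc z; exact ⟨i, w, hw⟩) y (fun i j Z a b hab => by
    refine (bijective_θ F Z).1 ?_
    rw [θ_rm, θ_rm, hy, hy]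
    exact hx' i j _ _ _ _ _ _ (congrArg (fun m : Z ⟶ top => m.left) hab))
  have hb : Function.Bijective (OmegaSh.pullSect top.hom (Inv F T.hom) ⊤) :=
    H17.PullSect.bijective_pullSect (𝟙 T.left) (Inv F T.hom) (W := ⊤)
      (Scheme.Hom.opensRange_of_isIso (𝟙 T.left)).ge
  obtain ⟨t, ht⟩ := hb.2 s
  refine ⟨ULift.up t, fun i => ULift.ext _ _ ?_, fun t' ht' => ULift.ext _ _ ?_⟩
  · change rmO F (covArr Y i) t = (x i).down
    rw [← θ_top F Y i (f i) t, ht, hs i, hy i]
  · refine hb.1 ((hsu _ fun i => (bijective_θ F (Y i)).1 ?_).trans ht.symm)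
    rw [θ_top F Y i (f i) t'.down, hy i]
    exact congrArg ULift.down (ht' i)

theorem isSheaf_bigPsh : Presheaf.IsSheaf (QuotSh.J KE S) (bigPsh F) := by
  refine Presheaf.isSheaf_of_isSheaf_comp _ _ (CategoryTheory.forget AddCommGrpCat.{u + 1}) ?_
  rw [isSheaf_iff_isSheaf_of_type]
  rw [QuotSh.J, over_toGrothendieck_eq_toGrothendieck_comap_forget,
    Precoverage.isSheaf_toGrothendieck_iff_of_isStableUnderBaseChange]
  intro T R hR
  obtain ⟨κ, Z, g, rfl⟩ := R.exists_eq_ofArrows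
  rw [Precoverage.mem_comap_iff, Presieve.map_ofArrows, Scheme.ofArrows_mem_precoverage_iff] at hR
  haveI : ∀ i, Etale (g i).left := hR.2
  let Y : κ → T.left.Etale := fun i => MorphismProperty.Over.mk ⊤ (g i).left (hR.2 i)
  let c : ∀ i, aOf (Y i) ≅ Z i := fun i => Over.isoMk (Iso.refl _) (by
    change 𝟙 _ ≫ (Z i).hom = (g i).left ≫ T.hom
    rw [Category.id_comp, Over.w (g i)])
  have hle : ∀ {W : Over S} (m : W ⟶ T), Sieve.generate (Presieve.ofArrows (fun i => aOf (Y i))
      fun i => (Over.homMk (g i).left rfl : aOf (Y i) ⟶ T)) m ↔ Sieve.generate (Presieve.ofArrows Z g) m := by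
    intro W m
    constructor
    · rintro ⟨_, k, _, ⟨i⟩, rfl⟩
      exact ⟨_, k ≫ (c i).hom, g i, Presieve.ofArrows.mk i, by
        rw [Category.assoc]
        exact congrArg (k ≫ ·) (Over.OverMorphism.ext (Category.id_comp _))⟩
    · rintro ⟨_, k, _, ⟨i⟩, rfl⟩
      exact ⟨_, k ≫ (c i).inv, _, Presieve.ofArrows.mk i, by
        rw [Category.assoc]
        exact congrArg (k ≫ ·) (Over.OverMorphism.ext (Category.id_comp _))⟩
  rw [Presieve.isSheafFor_iff_generate, ← show Sieve.generate (Presieve.ofArrows (fun i => aOf (Y i))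
      fun i => (Over.homMk (g i).left rfl : aOf (Y i) ⟶ T)) = _ from Sieve.ext fun _ m => hle m,
    ← Presieve.isSheafFor_iff_generate]
  exact isSheafFor_cover F Y fun x => by
    obtain ⟨i, y, hy⟩ := hR.1 x
    exact ⟨i, y, hy⟩

/-- The big étale sheaf. -/
def bigSheaf : BigSite.Ab KE S := ⟨bigPsh F, isSheaf_bigPsh F⟩

end Groth.Agent.H13Desc.EtSh
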