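import Groth.Agent.H13Desc.EtAssocSheaf.Good

/-!
# Étale cohomology of the associated sheaf is Zariski cohomology
-/

set_option autoImplicit false
set_option linter.style.haveILetI false
set_option backward.isDefEq.respectTransparency false
set_option backward.isDefEq.respectTransparency.types false

universe u

open CategoryTheory CategoryTheory.Limits AlgebraicGeometry Opposite TopologicalSpace MorphismProperty

noncomputable section

namespace Groth.Agent.H13Desc.EtSh

open Groth.Agent.H9Et Groth.Agent.H02CA.Adq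

variable {S : Scheme.{u}} (F : S.Modules)

lemma top_le_ι (U : S.Opens) : (⊤ : U.toScheme.Opens) ≤ U.ι ⁻¹ᵁ U := fun z _ => z.2

/-- Sections over an open as global sections of its inverse image. -/
def β (U : S.Opens) : Γ(F, U) →+ Γ(Inv F U.ι, ⊤) :=
  (σ F U.ι (𝟙 S) U.ι (Category.comp_id _) U (top_le_ι U)).comp (OmegaSh.pullSect (𝟙 S) F U).hom

lemma bijective_β (U : S.Opens) : Function.Bijective (β F U) :=
  (bijective_σ F U.ι (𝟙 S) U.ι (Category.comp_id _) U (Scheme.Opens.opensRange_ι U) (top_le_ι U)).comp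
    (H17.PullSect.bijective_pullSect (𝟙 S) F (W := U) (by rw [Scheme.Hom.opensRange_of_isIso]; exact le_top))

lemma β_res {U V : S.Opens} (h : V ≤ U) (s : Γ(F, U)) :
    rm F (S.homOfLE h) U.ι V.ι (S.homOfLE_ι h) (β F U s) = β F V (F.presheaf.map (homOfLE h).op s) := by
  have h1 : (⊤ : V.toScheme.Opens) ≤ V.ι ⁻¹ᵁ U := fun z _ => h z.2
  have h2 : (⊤ : V.toScheme.Opens) ≤ (S.homOfLE h ≫ U.ι) ⁻¹ᵁ U := by rw [S.homOfLE_ι]; exact h1
  have n : OmegaSh.pullSect (𝟙 S) F V (F.presheaf.map (homOfLE h).op s) =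
      (Inv F (𝟙 S)).presheaf.map (homOfLE h).op (OmegaSh.pullSect (𝟙 S) F U s) :=
    congr($((Scheme.Modules.Hom.mapPresheaf ((Scheme.Modules.pullbackPushforwardAdjunction (𝟙 S)).unit.app
      F)).naturality (homOfLE h).op) s)
  refine (rm_σ F U.ι (𝟙 S) U.ι (Category.comp_id _) (S.homOfLE h) V.ι (S.homOfLE_ι h) U (top_le_ι U) h2 _).trans ?_
  change _ = σ F V.ι (𝟙 S) V.ι _ V (top_le_ι V) (OmegaSh.pullSect (𝟙 S) F V (F.presheaf.map (homOfLE h).op s))
  rw [n, σ_res F _ _ _ _ h (top_le_ι V) h1]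
  exact σ_congr F _ _ _ _ (S.homOfLE_ι h) U _ _ _

variable [F.IsQuasicoherent]

/-- The big sheaf restricts to the associated sheaf. -/
def resEtIso (G : EtCoh.Ab S)
    (e : ∀ U : S.Etale, (G.obj.obj (op U) : Type (u+1)) ≃+ ULift.{u+1} (EtAssoc.obj F U))
    (he : ∀ (U U' : S.Etale) (g : U' ⟶ U) (s : G.obj.obj (op U)),
      (e U' (G.obj.map g.op s)).down = EtAssoc.resMap F g (e U s).down) :
    G ≅ (BigSite.resEt KE S).obj (bigSheaf F) :=
  (fullyFaithfulSheafToPresheaf _ _).preimageIso (NatIso.ofComponents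
    (fun W => AddEquiv.toAddCommGrpIso (e W.unop : _ ≃+
      ((BigSite.resEt KE S).obj (bigSheaf F)).obj.obj W))
    fun f => AddCommGrpCat.ext fun x => ULift.ext _ _ ((he _ _ f.unop x).trans (resMap_eq F f.unop _)))

/-- The restriction of the big sheaf to opens. -/
def resZarIso : (BigSite.resZar KE S).obj (bigSheaf F) ≅ (ZarUlift.lift S).obj (Coh.toAb F) :=
  (fullyFaithfulSheafToPresheaf _ _).preimageIso (Iso.symm (NatIso.ofComponents
    (fun U => AddEquiv.toAddCommGrpIso ((AddEquiv.ulift.trans (AddEquiv.ofBijective (β F U.unop)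
      (bijective_β F U.unop))).trans AddEquiv.ulift.symm :
        ((ZarUlift.lift S).obj (Coh.toAb F)).obj.obj U ≃+ ((BigSite.resZar KE S).obj (bigSheaf F)).obj.obj U))
    fun {U V} f => AddCommGrpCat.ext fun x => ULift.ext _ _ (β_res F f.unop.le x.down).symm))

theorem nonempty_H_equiv (G : EtCoh.Ab S) (hG : EtAssoc.IsAssoc F G) (q : ℕ) :
    Nonempty (EtCoh.H S G q ≃+ ULift.{u + 1} (Coh.HH S F q)) := by
  obtain ⟨e, he⟩ := hG
  obtain ⟨c⟩ := nonempty_etZar_equiv S q _ (goodSheaf_bigSheaf F)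
  obtain ⟨d⟩ := ZarUlift.nonempty_equiv S (Coh.toAb F) q
  exact ⟨((((Sheaf.functorH _ q).mapIso (resEtIso F G e he)).addCommGroupIsoToAddEquiv.trans c).trans
    (((Sheaf.functorH _ q).mapIso (resZarIso F)).addCommGroupIsoToAddEquiv.trans d.symm)).trans
      AddEquiv.ulift.symm⟩

end Groth.Agent.H13Desc.EtSh
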