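import Groth.Agent.H13Desc.EtAssocSheaf.HomDescent

/-!
# Full faithfulness of inverse image to descent data
-/

set_option autoImplicit false
set_option linter.style.haveILetI false
set_option backward.isDefEq.respectTransparency false
set_option backward.isDefEq.respectTransparency.types false

universe u

open CategoryTheory CategoryTheory.Limits AlgebraicGeometry Opposite TopologicalSpace

noncomputable section

namespace Groth.Agent.H13Desc.EtSh

variable {ι : Type u} {S : Scheme.{u}} {X : ι → Scheme.{u}} {f : ∀ i, X i ⟶ S} {M N : S.Modules}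

/-- The members of a morphism of canonical descent data. -/
abbrev members (η : (Desc.modPF.{u}.toDescentData f).obj M ⟶ (Desc.modPF.{u}.toDescentData f).obj N) (i : ι) :
    Inv M (f i) ⟶ Inv N (f i) := η.hom i

theorem conj_members (η : (Desc.modPF.{u}.toDescentData f).obj M ⟶ (Desc.modPF.{u}.toDescentData f).obj N)
    (Z : Scheme.{u}) (q : Z ⟶ S) (i j : ι) (a : Z ⟶ X i) (b : Z ⟶ X j) (ha : a ≫ f i = q) (hb : b ≫ f j = q) :
    conj (members η) i a q ha = conj (members η) j b q hb := by
  have h := η.comm q a b ha hb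
  have pa : (f i).op.toLoc ≫ a.op.toLoc = q.op.toLoc := by rw [← ha]; rfl
  have pb : (f j).op.toLoc ≫ b.op.toLoc = q.op.toLoc := by rw [← hb]; rfl
  let e₁ : (Scheme.Modules.pullback a).obj (Inv M (f i)) ⟶ (Scheme.Modules.pullback b).obj (Inv M (f j)) :=
    tr M a (f i) q ha ≫ inv (tr M b (f j) q hb)
  let e₂ : (Scheme.Modules.pullback a).obj (Inv N (f i)) ⟶ (Scheme.Modules.pullback b).obj (Inv N (f j)) :=
    tr N a (f i) q ha ≫ inv (tr N b (f j) q hb)
  have h1 : ((Desc.modPF.{u}.toDescentData f).obj M).hom q a b ha hb = e₁ :=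
    (congr (congrArg CategoryStruct.comp (mapComp'_inv_app M a (f i) q ha pa))
      (mapComp'_hom_app M b (f j) q hb pb))
  have h2 : ((Desc.modPF.{u}.toDescentData f).obj N).hom q a b ha hb = e₂ :=
    (congr (congrArg CategoryStruct.comp (mapComp'_inv_app N a (f i) q ha pa))
      (mapComp'_hom_app N b (f j) q hb pb))
  rw [h1, h2] at h
  have h' : (Scheme.Modules.pullback a).map (members η i) ≫ tr N a (f i) q ha ≫ inv (tr N b (f j) q hb) =
      (tr M a (f i) q ha ≫ inv (tr M b (f j) q hb)) ≫ (Scheme.Modules.pullback b).map (members η j) := h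
  simp only [conj]
  rw [IsIso.inv_comp_eq, ← cancel_mono (inv (tr N b (f j) q hb))]
  simp only [Category.assoc, IsIso.hom_inv_id, Category.comp_id] at h' ⊢
  exact h'

theorem bijective_toDescentData_map (hf : Presieve.ofArrows X f ∈ Scheme.fpqcPrecoverage S) [N.IsQuasicoherent] :
    Function.Bijective ((Desc.modPF.{u}.toDescentData f).map : (M ⟶ N) → _) := by
  refine ⟨fun ψ ψ' h => ?_, fun η => ?_⟩
  · refine eq_of_pullback_map hf ψ ψ' (fun i => congrArg (fun η => members η i) h) ?_
    exact conj_members ((Desc.modPF.{u}.toDescentData f).map ψ)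
  · refine ⟨glued (members η) hf (conj_members η), ?_⟩
    exact Pseudofunctor.DescentData.hom_ext fun i => pullback_map_glued (members η) hf (conj_members η) i

end Groth.Agent.H13Desc.EtSh
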