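import Groth.Agent.H13Desc.EtAssocSheaf.Affine
import Mathlib.AlgebraicGeometry.Sites.Fpqc

/-!
# Pairs of a point and a section of the inverse image form an fpqc sheaf
-/

set_option autoImplicit false
set_option linter.style.haveILetI false
set_option backward.isDefEq.respectTransparency false
set_option backward.isDefEq.respectTransparency.types false

universe u

open CategoryTheory CategoryTheory.Limits AlgebraicGeometry Opposite TopologicalSpace
open scoped TensorProduct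

noncomputable section

namespace Groth.Agent.H13Desc.EtSh

variable {S : Scheme.{u}} (F : S.Modules)

/-- A morphism to the base with a section of the inverse image. -/
structure Pair (T : Scheme.{u}) : Type u where
  /-- the morphism -/
  p : T ⟶ S
  /-- the section -/
  x : Γ(Inv F p, ⊤)

lemma Pair.ext' {T : Scheme.{u}} {e e' : Pair F T} (hp : e.p = e'.p)
    (hx : rm F (𝟙 T) e.p e'.p ((Category.id_comp _).trans hp) e.x = e'.x) : e = e' := by
  obtain ⟨p, x⟩ := e
  obtain ⟨p', x'⟩ := e'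
  change p = p' at hp
  subst hp
  rw [rm_id] at hx
  subst hx
  rfl

/-- Pulling a pair back. -/
def Pair.res {T T' : Scheme.{u}} (k : T' ⟶ T) (e : Pair F T) : Pair F T' :=
  ⟨k ≫ e.p, rm F k e.p _ rfl e.x⟩

lemma rm_rm' {U V T : Scheme.{u}} {g : V ⟶ U} {φ : T ⟶ V} {g' : T ⟶ U} (h : φ ≫ g = g') {u : U ⟶ S}
    {v : V ⟶ S} {t : T ⟶ S} (e : g ≫ u = v) (e' : φ ≫ v = t) (x : Γ(Inv F u, ⊤)) :
    rm F φ v t e' (rm F g u v e x) = rm F g' u t (by rw [← h, Category.assoc, e, e']) x := by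
  subst h
  exact rm_rm F g u v e φ t e' x

lemma Pair.rm_x_of_eq {T : Scheme.{u}} {e e' : Pair F T} (h : e = e') {T' : Scheme.{u}} (k : T' ⟶ T) (t : T' ⟶ S)
    (ht : k ≫ e.p = t) : rm F k e.p t ht e.x = rm F k e'.p t (h ▸ ht) e'.x := by
  subst h; rfl

/-- The presheaf of pairs. -/
def pairs : Scheme.{u}ᵒᵖ ⥤ Type u where
  obj T := Pair F T.unop
  map k := ↾(Pair.res F k.unop)
  map_id T := by
    ext e
    refine Pair.ext' F (Category.id_comp _) ?_
    exact (rm_rm' F (Category.id_comp (𝟙 T.unop)) _ _ e.x).trans (rm_id F e.p e.x)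
  map_comp {T T' T''} a b := by
    ext e
    refine Pair.ext' F (Category.assoc _ _ _) ?_
    change rm F (𝟙 _) _ _ _ (rm F (b.unop ≫ a.unop) e.p _ rfl e.x) = rm F b.unop _ _ rfl (rm F a.unop e.p _ rfl e.x)
    rw [rm_rm' F (Category.id_comp (b.unop ≫ a.unop)) rfl _ e.x, rm_rm' F rfl rfl rfl e.x]

lemma pairs_map {T T' : Scheme.{u}} (k : T' ⟶ T) (e : Pair F T) : (pairs F).map k.op e = Pair.res F k e := rfl

variable {T : Scheme.{u}} (t : T ⟶ S) (𝒰 : T.OpenCover)

/-- Sections are determined on an open covering. -/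
theorem eq_of_openCover (s s' : Γ(Inv F t, ⊤))
    (h : ∀ i, rm F (𝒰.f i) t _ rfl s = rm F (𝒰.f i) t _ rfl s') : s = s' := by
  refine TopCat.Sheaf.eq_of_locally_eq' ((H10Coh.shF T).obj (Inv F t))
    (fun i => (𝒰.f i).opensRange) ⊤ (fun i => homOfLE le_top)
    (fun x _ => Opens.mem_iSup.mpr ⟨𝒰.idx x, 𝒰.covers x⟩) s s' fun i => ?_
  refine (bijective_σ F (𝒰.f i) t (𝒰.f i ≫ t) rfl _ rfl (fun z _ => ⟨z, rfl⟩)).1 ?_
  exact (σ_res F _ _ _ _ le_top _ le_rfl s).trans ((h i).trans (σ_res F _ _ _ _ le_top _ le_rfl s').symm)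

/-- Compatible sections on an open covering glue. -/
theorem exists_glue_openCover (y : ∀ i, Γ(Inv F (𝒰.f i ≫ t), ⊤))
    (h : ∀ i j (Z : Scheme.{u}) (a : Z ⟶ 𝒰.X i) (b : Z ⟶ 𝒰.X j) (q : Z ⟶ S) (ha : a ≫ 𝒰.f i ≫ t = q)
      (hb : b ≫ 𝒰.f j ≫ t = q), a ≫ 𝒰.f i = b ≫ 𝒰.f j →
        rm F a _ q ha (y i) = rm F b _ q hb (y j)) :
    ∃ s : Γ(Inv F t, ⊤), ∀ i, rm F (𝒰.f i) t _ rfl s = y i := by
  let W : 𝒰.I₀ → T.Opens := fun i => (𝒰.f i).opensRange
  have hW : ∀ i, (⊤ : (𝒰.X i).Opens) ≤ 𝒰.f i ⁻¹ᵁ W i := fun i z _ => ⟨z, rfl⟩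
  choose r hr using fun i => (bijective_σ F (𝒰.f i) t (𝒰.f i ≫ t) rfl (W i) rfl (hW i)).2 (y i)
  have hcomp : TopCat.Presheaf.IsCompatible ((H10Coh.shF T).obj (Inv F t)).1 W r := by
    intro i j
    let O : T.Opens := W i ⊓ W j
    let a : O.toScheme ⟶ 𝒰.X i := IsOpenImmersion.lift (𝒰.f i) O.ι
      ((Scheme.Opens.range_ι O).subset.trans fun z hz => hz.1)
    let b : O.toScheme ⟶ 𝒰.X j := IsOpenImmersion.lift (𝒰.f j) O.ι
      ((Scheme.Opens.range_ι O).subset.trans fun z hz => hz.2)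
    have ha : a ≫ 𝒰.f i = O.ι := IsOpenImmersion.lift_fac _ _ _
    have hb : b ≫ 𝒰.f j = O.ι := IsOpenImmersion.lift_fac _ _ _
    have hO : (⊤ : O.toScheme.Opens) ≤ O.ι ⁻¹ᵁ O := fun z _ => z.2
    refine (bijective_σ F O.ι t (O.ι ≫ t) rfl O (Scheme.Opens.opensRange_ι O) hO).1 ?_
    have key : ∀ (k : 𝒰.I₀) (c : O.toScheme ⟶ 𝒰.X k) (hc : c ≫ 𝒰.f k = O.ι) (hOk : O ≤ W k),
        σ F O.ι t (O.ι ≫ t) rfl O hO ((Inv F t).presheaf.map (homOfLE hOk).op (r k)) =
          rm F c _ (O.ι ≫ t) (by rw [← Category.assoc, hc]) (y k) := by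
      intro k c hc hOk
      have h1 : (⊤ : O.toScheme.Opens) ≤ O.ι ⁻¹ᵁ W k := fun w _ => hOk w.2
      rw [← hr k, rm_σ F (𝒰.f k) t _ rfl c (O.ι ≫ t) _ (W k) (hW k) (by rw [hc]; exact h1) (r k),
        σ_res F _ _ _ _ hOk _ h1]
      exact σ_congr F _ _ _ _ hc.symm _ _ _ _
    exact (key i a ha inf_le_left).trans ((h i j _ a b _ _ _ (ha.trans hb.symm)).trans
      (key j b hb inf_le_right).symm)
  obtain ⟨s, hs, -⟩ := TopCat.Sheaf.existsUnique_gluing' ((H10Coh.shF T).obj (Inv F t)) W ⊤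
    (fun i => homOfLE le_top) (fun x _ => Opens.mem_iSup.mpr ⟨𝒰.idx x, 𝒰.covers x⟩) r hcomp
  refine ⟨s, fun i => ?_⟩
  rw [← hr i]
  exact (σ_res F _ _ _ _ le_top _ le_rfl s).symm.trans (congrArg _ (hs i))

theorem isSheaf_zariski_pairs : Presieve.IsSheaf Scheme.zariskiTopology (pairs F) := by
  rw [Scheme.zariskiTopology, Precoverage.isSheaf_toGrothendieck_iff_of_isStableUnderBaseChange]
  intro T R hR
  obtain ⟨(𝒰 : T.OpenCover), rfl⟩ := Scheme.exists_cover_of_mem_pretopology hR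
  rw [Presieve.isSheafFor_arrows_iff]
  intro x hx
  let p : T ⟶ S := 𝒰.glueMorphisms (fun i => (x i).p) fun i j =>
    congrArg Pair.p (hx i j _ _ _ pullback.condition)
  have hp : ∀ i, 𝒰.f i ≫ p = (x i).p := fun i => 𝒰.ι_glueMorphisms _ _ i
  obtain ⟨s, hs⟩ := exists_glue_openCover F p 𝒰
    (fun i => rm F (𝟙 _) (x i).p _ ((Category.id_comp _).trans (hp i).symm) (x i).x)
    (fun i j Z a b q ha hb e => by
      rw [rm_rm' F (Category.comp_id a) _ _ (x i).x, rm_rm' F (Category.comp_id b) _ _ (x j).x]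
      have e1 : a ≫ (x i).p = q := by rw [← hp i, ← ha]
      have h := Pair.rm_x_of_eq F (hx i j Z a b e) (𝟙 Z) q ((Category.id_comp _).trans e1)
      exact (rm_rm' F (Category.id_comp a) rfl _ (x i).x).symm.trans
        (h.trans (rm_rm' F (Category.id_comp b) rfl _ (x j).x)))
  refine ⟨⟨p, s⟩, fun i => Pair.ext' F (hp i) ?_, fun e he => ?_⟩
  · have e1 := congrArg (rm F (𝟙 _) (𝒰.f i ≫ p) (x i).p ((Category.id_comp _).trans (hp i))) (hs i)
    refine e1.trans ((rm_rm' F (Category.id_comp (𝟙 _)) _ _ (x i).x).trans (rm_id F _ _))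
  · obtain ⟨p', s'⟩ := e
    have hpp : p' = p := 𝒰.hom_ext _ _ fun i => (congrArg Pair.p (he i)).trans (hp i).symm
    subst hpp
    refine Pair.ext' F rfl ((rm_id F _ _).trans (eq_of_openCover F p 𝒰 _ _ fun i => ?_))
    have h := Pair.rm_x_of_eq F (he i) (𝟙 _) (𝒰.f i ≫ p) (Category.id_comp _)
    refine Eq.trans ?_ (h.trans (hs i).symm)
    exact (rm_id F _ _).symm

variable [F.IsQuasicoherent]

/-- Descent of sections along a faithfully flat map of affine schemes. -/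
theorem exists_descend_aff {U V : Scheme.{u}} [IsAffine U] [IsAffine V] (f : V ⟶ U) [Flat f] [Surjective f]
    (u : U ⟶ S) (v : V ⟶ S) (e : f ≫ u = v) :
    Function.Injective (rm F f u v e) ∧ ∀ x : Γ(Inv F v, ⊤),
      (∀ (Z : Scheme.{u}) (a b : Z ⟶ V) (q : Z ⟶ S) (ha : a ≫ v = q) (hb : b ≫ v = q), a ≫ f = b ≫ f →
        rm F a v q ha x = rm F b v q hb x) → ∃ t, rm F f u v e t = x := by
  let A := Γ(U, ⊤)
  let B := Γ(V, ⊤)
  let N := Γ(Inv F u, ⊤)
  let σA : A →+* B := f.appTop.hom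
  letI := σA.toAlgebra
  haveI : Module.FaithfullyFlat A B :=
    RingHom.faithfullyFlat_algebraMap_iff.1 ((Flat.flat_and_surjective_iff_faithfullyFlat_of_isAffine f).1
      ⟨inferInstance, inferInstance⟩)
  obtain ⟨eV, he⟩ := (isBC_rm F f u v e).exists_equiv
  have he1 : ∀ n : N, rm F f u v e n = eV (1 ⊗ₜ n) := fun n => by rw [he, one_smul]
  refine ⟨fun n n' hn => ?_, fun x hx => ?_⟩
  · rw [he1, he1] at hn
    exact Module.FaithfullyFlat.tensorProduct_mk_injective (A := A) (B := B) N (eV.injective hn)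
  let W : Scheme.{u} := pullback f f
  let p₁ : W ⟶ V := pullback.fst f f
  let p₂ : W ⟶ V := pullback.snd f f
  let q : W ⟶ S := p₁ ≫ v
  have hq₂ : p₂ ≫ v = q := by
    rw [← e, ← pullback.condition_assoc]
    simp only [q, p₁, ← e]
  let C := Γ(W, ⊤)
  let σC : A →+* C := (p₁ ≫ f).appTop.hom
  letI := σC.toAlgebra
  obtain ⟨eW, heW⟩ := (isBC_rm F (p₁ ≫ f) u q (by rw [Category.assoc, e])).exists_equiv
  let φ₁ : B →ₐ[A] C :=
    { toRingHom := p₁.appTop.hom
      commutes' := fun a => rfl }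
  let φ₂ : B →ₐ[A] C :=
    { toRingHom := p₂.appTop.hom
      commutes' := fun a => congr($(congrArg Scheme.Hom.appTop
        (pullback.condition (f := f) (g := f)).symm) a) }
  have key : ∀ (p : W ⟶ V) (φ : B →ₐ[A] C) (hpq : p ≫ v = q), p ≫ f = p₁ ≫ f → (∀ b, φ b = p.appTop b) →
      ∀ z : B ⊗[A] N, rm F p v q hpq (eV z) = eW (φ.toLinearMap.rTensor N z) := by
    intro p φ hpq hpf hφ z
    induction z using TensorProduct.induction_on with
    | zero => simp
    | add a b ha hb => simp only [map_add, ha, hb]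
    | tmul b n =>
      rw [LinearMap.rTensor_tmul, he, heW]
      refine (rm_smul F p v q hpq b _).trans ?_
      rw [← hφ]
      exact congrArg (fun z => φ b • z) (rm_rm' F hpf e hpq n)
  obtain ⟨z, rfl⟩ := eV.surjective x
  have h12 : φ₁.toLinearMap.rTensor N z = φ₂.toLinearMap.rTensor N z :=
    eW.injective (((key p₁ φ₁ rfl rfl (fun _ => rfl) z).symm.trans
      (hx W p₁ p₂ q rfl hq₂ pullback.condition)).trans (key p₂ φ₂ hq₂ pullback.condition.symm (fun _ => rfl) z))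
  let iL : B ⟶ CommRingCat.of (B ⊗[A] B) := CommRingCat.ofHom Algebra.TensorProduct.includeLeftRingHom
  let iR : B ⟶ CommRingCat.of (B ⊗[A] B) :=
    CommRingCat.ofHom (Algebra.TensorProduct.includeRight (R := A) (A := B) (B := B)).toRingHom
  have hLR : f.appTop ≫ iL = f.appTop ≫ iR :=
    CommRingCat.hom_ext (RingHom.ext fun a => Algebra.TensorProduct.tmul_one_eq_one_tmul a)
  let L : Spec (CommRingCat.of (B ⊗[A] B)) ⟶ W :=
    pullback.lift (Spec.map iL ≫ V.isoSpec.inv) (Spec.map iR ≫ V.isoSpec.inv) (by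
      rw [Category.assoc, Category.assoc, ← Scheme.isoSpec_inv_naturality, ← Spec.map_comp_assoc,
        ← Spec.map_comp_assoc, hLR])
  let ψ : C ⟶ CommRingCat.of (B ⊗[A] B) := L.appTop ≫ (Scheme.ΓSpecIso _).hom
  have hψ₁ : p₁.appTop ≫ ψ = iL := by
    change (pullback.fst f f).appTop ≫ L.appTop ≫ _ = iL
    rw [← Scheme.Hom.comp_appTop_assoc, pullback.lift_fst, appTop_specLift]
  have hψ₂ : p₂.appTop ≫ ψ = iR := by
    change (pullback.snd f f).appTop ≫ L.appTop ≫ _ = iR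
    rw [← Scheme.Hom.comp_appTop_assoc, pullback.lift_snd, appTop_specLift]
  let ψ' : C →ₐ[A] B ⊗[A] B :=
    { toRingHom := ψ.hom
      commutes' := fun a => congr($hψ₁ (σA a)) }
  have hz : H14QCoh.amitsurDiff A B N z = 0 := by
    have hd : ∀ z : B ⊗[A] N, H14QCoh.amitsurDiff A B N z =
        TensorProduct.assoc A B B N (ψ'.toLinearMap.rTensor N (φ₁.toLinearMap.rTensor N z)) -
          TensorProduct.assoc A B B N (ψ'.toLinearMap.rTensor N (φ₂.toLinearMap.rTensor N z)) := by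
      intro z
      induction z using TensorProduct.induction_on with
      | zero => simp
      | add a b ha hb => simp only [map_add, ha, hb]; abel
      | tmul b n =>
        have e1 : ψ' (φ₁ b) = b ⊗ₜ[A] (1 : B) := congr($hψ₁ b)
        have e2 : ψ' (φ₂ b) = (1 : B) ⊗ₜ[A] b := congr($hψ₂ b)
        rw [H14QCoh.amitsurDiff_tmul, LinearMap.rTensor_tmul, LinearMap.rTensor_tmul, LinearMap.rTensor_tmul,
          LinearMap.rTensor_tmul, AlgHom.toLinearMap_apply, AlgHom.toLinearMap_apply, AlgHom.toLinearMap_apply,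
          AlgHom.toLinearMap_apply, e1, e2, TensorProduct.assoc_tmul, TensorProduct.assoc_tmul]
    rw [hd, h12, sub_self]
  obtain ⟨n, hn⟩ := H14QCoh.exists_of_amitsurDiff_eq_zero hz
  exact ⟨n, by rw [he1, hn]⟩

/-- The pairs form an fpqc sheaf. -/
theorem isSheaf_fpqc_pairs : Presieve.IsSheaf Scheme.fpqcTopology (pairs F) := by
  rw [Scheme.fpqcTopology_eq_propQCTopology, isSheaf_type_propQCTopology_iff]
  refine ⟨isSheaf_zariski_pairs F, fun {A B} φ hflat hsurj => ?_⟩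
  let f : Spec B ⟶ Spec A := Spec.map φ
  haveI : Flat f := hflat
  haveI : Surjective f := hsurj
  rw [Presieve.isSheafFor_singleton]
  intro x hx
  obtain ⟨p, hp, hpu⟩ := Presieve.isSheafFor_singleton.1
    ((GrothendieckTopology.Subcanonical.isSheaf_of_isRepresentable (J := Scheme.fpqcTopology)
      (yoneda.obj S)).isSheafFor (Presieve.singleton f)
        (Precoverage.generate_mem_toGrothendieck (Scheme.Hom.singleton_mem_fpqcPrecoverage f))) x.p
    fun {Z} a b e => congrArg Pair.p (hx a b e)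
  have hp' : f ≫ p = x.p := hp
  obtain ⟨hinj, hsur⟩ := exists_descend_aff F f p x.p hp'
  obtain ⟨t, ht⟩ := hsur x.x fun Z a b q ha hb e => by
    have h := Pair.rm_x_of_eq F (hx a b e) (𝟙 Z) q ((Category.id_comp _).trans ha)
    exact (rm_rm' F (Category.id_comp a) rfl _ x.x).symm.trans
      (h.trans (rm_rm' F (Category.id_comp b) rfl _ x.x))
  refine ⟨⟨p, t⟩, Pair.ext' F hp' ((rm_rm' F (Category.id_comp f) rfl _ t).trans ht), fun e he => ?_⟩
  obtain ⟨p', t'⟩ := e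
  obtain rfl : p' = p := hpu p' (congrArg Pair.p he)
  refine Pair.ext' F rfl ((rm_id F _ _).trans (hinj ?_))
  have h := Pair.rm_x_of_eq F he (𝟙 _) x.p ((Category.id_comp _).trans hp')
  exact ((rm_rm' F (Category.id_comp f) rfl _ t').symm.trans (h.trans (rm_id F _ _))).trans ht.symm

end Groth.Agent.H13Desc.EtSh
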