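import Groth.Agent.H13Desc.EtAssocSheaf.Big
import Groth.Agent.H23Ga.Vanish

/-!
# The big sheaf is good, and the comparison of étale and Zariski cohomology
-/

set_option autoImplicit false
set_option linter.style.haveILetI false
set_option backward.isDefEq.respectTransparency false
set_option backward.isDefEq.respectTransparency.types false

universe u

open CategoryTheory CategoryTheory.Limits AlgebraicGeometry Opposite TopologicalSpace MorphismProperty
open scoped TensorProduct

noncomputable section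

namespace Groth.Agent.H13Desc.EtSh

open Groth.Agent.H9Et Adeq Groth.Agent.H02CA.Adq Groth.Agent.H14QCoh

theorem isBC_of_bijective {A B M N : Type u} [CommRing A] [CommRing B] [AddCommGroup M] [Module A M]
    [AddCommGroup N] [Module B N] {σ : A →+* B} (hσ : Function.Bijective σ) {f : M →+ N}
    (hf : Function.Bijective f) (smul : ∀ a m, f (a • m) = σ a • f m) : IsBC σ f := by
  refine isBC_of_tensor smul ?_
  letI := σ.toAlgebra
  letI := Module.compHom N σ
  haveI : IsScalarTower A B N := .of_algebraMap_smul fun _ _ => rfl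
  let F : M →ₗ[A] N := { toFun := f, map_add' := map_add f, map_smul' := smul }
  have h1 : ∀ z : B ⊗[A] M, ∃ m, z = 1 ⊗ₜ m := fun z => by
    induction z using TensorProduct.induction_on with
    | zero => exact ⟨0, (TensorProduct.tmul_zero _ _).symm⟩
    | add a b ha hb =>
      obtain ⟨m, rfl⟩ := ha
      obtain ⟨m', rfl⟩ := hb
      exact ⟨m + m', (TensorProduct.tmul_add _ _ _).symm⟩
    | tmul b m =>
      obtain ⟨a, rfl⟩ := hσ.2 b
      exact ⟨a • m, by rw [TensorProduct.tmul_smul, TensorProduct.smul_tmul', Algebra.smul_def, mul_one]; rfl⟩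
  refine ⟨F.liftBaseChange B, ⟨(injective_iff_map_eq_zero _).2 fun z hz => ?_, fun n => ?_⟩, fun m => ?_⟩
  · obtain ⟨m, rfl⟩ := h1 z
    rw [LinearMap.liftBaseChange_tmul, one_smul] at hz
    rw [hf.1 (hz.trans (map_zero f).symm), TensorProduct.tmul_zero]
  · obtain ⟨m, rfl⟩ := hf.2 n
    exact ⟨1 ⊗ₜ m, by rw [LinearMap.liftBaseChange_tmul, one_smul]; rfl⟩
  · rw [LinearMap.liftBaseChange_tmul, one_smul]
    rfl

theorem exists_equiv_alg {A B M N : Type u} [CommRing A] [CommRing B] [Algebra A B] [AddCommGroup M] [Module A M]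
    [AddCommGroup N] [Module B N] {f : M →+ N} (h : IsBC (algebraMap A B) f) :
    ∃ e : B ⊗[A] M ≃ₗ[B] N, ∀ b m, e (b ⊗ₜ m) = b • f m := by
  have h' := h.exists_equiv
  rwa [show (algebraMap A B).toAlgebra = ‹Algebra A B› from Algebra.algebra_ext _ _ fun _ => rfl] at h'

variable {S : Scheme.{u}} (F : S.Modules) {R : CommRingCat.{u}} (a : Spec R ⟶ S)

/-- The global sections of the inverse image on an affine scheme. -/
def Glob : Type u := Γ(Inv F a, ⊤)

instance : AddCommGroup (Glob F a) := inferInstanceAs (AddCommGroup Γ(Inv F a, ⊤))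

instance : Module R (Glob F a) :=
  Module.compHom Γ(Inv F a, ⊤) (Scheme.ΓSpecIso R).inv.hom

/-- The sections over the spectrum of an algebra, as a module over it. -/
def SecB (B : Alg R) : Type u :=
  Γ(Inv F (Spec.map (CommRingCat.ofHom (algebraMap R B)) ≫ a), ⊤)

instance (B : Alg R) : AddCommGroup (SecB F a B) :=
  inferInstanceAs (AddCommGroup Γ(Inv F (Spec.map (CommRingCat.ofHom (algebraMap R B)) ≫ a), ⊤))

instance (B : Alg R) : Module B (SecB F a B) :=
  Module.compHom Γ(Inv F (Spec.map (CommRingCat.ofHom (algebraMap R B)) ≫ a), ⊤)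
    (Scheme.ΓSpecIso (CommRingCat.of B)).inv.hom

/-- Restriction to the spectrum of an algebra. -/
def resB (B : Alg R) : Glob F a →+ SecB F a B :=
  rm F (Spec.map (CommRingCat.ofHom (algebraMap R B))) a _ rfl

theorem isBC_resB [F.IsQuasicoherent] (B : Alg R) : IsBC (algebraMap R B) (resB F a B) := by
  let g := Spec.map (CommRingCat.ofHom (algebraMap R B))
  have h0 := isBC_rm F g a (g ≫ a) rfl
  have b1 : Function.Bijective (Scheme.ΓSpecIso R).inv.hom := ConcreteCategory.bijective_of_isIso _
  have b2 : Function.Bijective (Scheme.ΓSpecIso (CommRingCat.of B)).hom.hom :=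
    ConcreteCategory.bijective_of_isIso _
  have h1 : IsBC (Scheme.ΓSpecIso R).inv.hom
      ({ toFun := fun x => x, map_zero' := rfl, map_add' := fun _ _ => rfl } : Glob F a →+ Γ(Inv F a, ⊤)) :=
    isBC_of_bijective b1 ⟨fun _ _ h => h, fun x => ⟨x, rfl⟩⟩ fun _ _ => rfl
  have h2 : IsBC (Scheme.ΓSpecIso (CommRingCat.of B)).hom.hom
      ({ toFun := fun x => x, map_zero' := rfl, map_add' := fun _ _ => rfl } :
        Γ(Inv F (g ≫ a), ⊤) →+ SecB F a B) :=
    isBC_of_bijective b2 ⟨fun _ _ h => h, fun x => ⟨x, rfl⟩⟩ fun r m => by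
      change r • m = ((Scheme.ΓSpecIso (CommRingCat.of B)).inv ((Scheme.ΓSpecIso (CommRingCat.of B)).hom r) :
        Γ(Spec (CommRingCat.of B), ⊤)) • m
      rw [Iso.hom_inv_id_apply]
  have h := (h1.comp h0).comp h2
  have e : (Scheme.ΓSpecIso (CommRingCat.of B)).hom.hom.comp (g.appTop.hom.comp (Scheme.ΓSpecIso R).inv.hom) =
      algebraMap R B := by
    have := Scheme.ΓSpecIso_naturality (CommRingCat.ofHom (algebraMap R B))
    have h3 : (Scheme.ΓSpecIso R).inv ≫ g.appTop ≫ (Scheme.ΓSpecIso (CommRingCat.of B)).hom =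
        CommRingCat.ofHom (algebraMap R B) := this ▸ (Scheme.ΓSpecIso R).inv_hom_id_assoc _
    exact congrArg CommRingCat.Hom.hom h3
  rw [e] at h
  exact h

variable [F.IsQuasicoherent]

/-- Sections as tensor products. -/
def eqB (B : Alg R) : (B : Type u) ⊗[R] Glob F a ≃ₗ[B] SecB F a B := (exists_equiv_alg (isBC_resB F a B)).choose

lemma eqB_tmul (B : Alg R) (b : B) (n : Glob F a) : eqB F a B (b ⊗ₜ n) = b • resB F a B n :=
  (exists_equiv_alg (isBC_resB F a B)).choose_spec b n

/-- The global sections, one universe up. -/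
abbrev base : ModuleCat.{u + 1} R := ModuleCat.of R (ULift.{u + 1} (Glob F a))

/-- Sections over the spectrum of an algebra. -/
def secE (B : Alg R) : (bigPsh F).obj (op ((specOver a).obj (op B))) ≃+ (U R (base F a)).obj (pt B) :=
  (AddEquiv.ulift.trans (eqB F a B).symm.toAddEquiv).trans
    (LinearEquiv.lTensor (B : Type u) ULift.moduleEquiv.symm).toAddEquiv

/-- Restriction between spectra of algebras. -/
def rmB {B B' : Alg R} (f : B ⟶ B') : SecB F a B →+ SecB F a B' :=
  rm F (Spec.map (CommRingCat.ofHom f.hom.toRingHom)) _ _ (by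
    rw [← Category.assoc, ← Spec.map_comp]
    exact congrArg (fun φ => Spec.map φ ≫ a) (CommRingCat.hom_ext (RingHom.ext fun r => f.hom.commutes r)))

lemma rmB_smul {B B' : Alg R} (f : B ⟶ B') (b : B) (y : SecB F a B) :
    rmB F a f (b • y) = f.hom b • rmB F a f y := by
  let φ : Spec (CommRingCat.of B') ⟶ Spec (CommRingCat.of B) := Spec.map (CommRingCat.ofHom f.hom.toRingHom)
  let g := Spec.map (CommRingCat.ofHom (algebraMap R B))
  let g' := Spec.map (CommRingCat.ofHom (algebraMap R B'))
  have e : φ ≫ g ≫ a = g' ≫ a := by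
    rw [← Category.assoc, ← Spec.map_comp]
    exact congrArg (fun φ => Spec.map φ ≫ a) (CommRingCat.hom_ext (RingHom.ext fun r => f.hom.commutes r))
  have h1 := rm_smul F φ (g ≫ a) (g' ≫ a) e ((Scheme.ΓSpecIso (CommRingCat.of B)).inv b) y
  have hn := ConcreteCategory.congr_hom (Scheme.ΓSpecIso_inv_naturality (CommRingCat.ofHom f.hom.toRingHom)) b
  exact h1.trans (congrArg (fun c : Γ(Spec (CommRingCat.of B'), ⊤) => c • rm F φ (g ≫ a) (g' ≫ a) e y) hn.symm)

omit R a [F.IsQuasicoherent] in
lemma rm_rm_of_eq {U V T : Scheme.{u}} (g : V ⟶ U) (φ : T ⟶ V) (g' : T ⟶ U) (h : φ ≫ g = g') (u : U ⟶ S)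
    (v : V ⟶ S) (t : T ⟶ S) (e : g ≫ u = v) (e' : φ ≫ v = t) (e'' : g' ≫ u = t) (x : Γ(Inv F u, ⊤)) :
    rm F φ v t e' (rm F g u v e x) = rm F g' u t e'' x := by
  subst h
  exact rm_rm F g u v e φ t e' x

lemma rmB_resB {B B' : Alg R} (f : B ⟶ B') (n : Glob F a) : rmB F a f (resB F a B n) = resB F a B' n :=
  rm_rm_of_eq F (Spec.map (CommRingCat.ofHom (algebraMap R B))) (Spec.map (CommRingCat.ofHom f.hom.toRingHom))
    (Spec.map (CommRingCat.ofHom (algebraMap R B')))
    (((Spec.map_comp _ _).symm.trans (congrArg Spec.map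
      (CommRingCat.hom_ext (RingHom.ext fun r => f.hom.commutes r)))))
    a (Spec.map (CommRingCat.ofHom (algebraMap R B)) ≫ a) (Spec.map (CommRingCat.ofHom (algebraMap R B')) ≫ a)
    rfl _ rfl n

lemma rmB_eqB {B B' : Alg R} (f : B ⟶ B') (z : (B : Type u) ⊗[R] Glob F a) :
    rmB F a f (eqB F a B z) = eqB F a B' (f.hom.toLinearMap.rTensor (Glob F a) z) := by
  induction z using TensorProduct.induction_on with
  | zero => rw [map_zero, map_zero, map_zero, map_zero]
  | add p q hp hq => rw [map_add, map_add, map_add, map_add, hp, hq]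
  | tmul b n =>
    rw [LinearMap.rTensor_tmul, eqB_tmul, eqB_tmul, rmB_smul, rmB_resB]
    rfl

lemma rmB_symm {B B' : Alg R} (f : B ⟶ B') (y : SecB F a B) :
    (eqB F a B').symm (rmB F a f y) = f.hom.toLinearMap.rTensor (Glob F a) ((eqB F a B).symm y) := by
  obtain ⟨z, rfl⟩ := (eqB F a B).surjective y
  rw [rmB_eqB, LinearEquiv.symm_apply_apply, LinearEquiv.symm_apply_apply]

lemma lTensor_rTensor_ulift {B B' : Alg R} (f : B ⟶ B') (z : (B : Type u) ⊗[R] Glob F a) :
    LinearEquiv.lTensor (B' : Type u) ULift.moduleEquiv.symm (f.hom.toLinearMap.rTensor (Glob F a) z) =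
      f.hom.toLinearMap.rTensor (base F a) (LinearEquiv.lTensor (B : Type u) ULift.moduleEquiv.symm z) := by
  induction z using TensorProduct.induction_on with
  | zero => simp
  | add p q hp hq => simp only [map_add, hp, hq]
  | tmul b n => rfl

theorem secE_map {B B' : Alg R} (f : B ⟶ B') (x : (bigPsh F).obj (op ((specOver a).obj (op B)))) :
    secE F a B' ((bigPsh F).map ((specOver a).map f.op).op x) = mp (U R (base F a)) f (secE F a B x) := by
  have h := rmB_symm F a f x.down
  exact (congrArg (LinearEquiv.lTensor (B' : Type u) ULift.moduleEquiv.symm) h).trans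
    (lTensor_rTensor_ulift F a f _)

omit R a in
/-- The big sheaf is good. -/
theorem goodSheaf_bigSheaf : GoodSheaf (bigSheaf F) := by
  intro R a A _ _ hff k x hx
  haveI := hff
  let G := (bigSheaf F).obj
  let e : ∀ j, G.obj (op (nerveObj a A j)) ≃+ (U R (base F a)).obj (pt (amAlg (R := R) A j)) := fun j =>
    secE F a _
  have key : ∀ j y, e (j + 1) (nerveD a A G j y) = amD A (U R (base F a)) j (e j y) := by
    intro j y
    rw [nerveD_apply, amD_apply, map_sum]
    refine Finset.sum_congr rfl fun i _ => ?_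
    rw [face_eq, map_zsmul]
    exact congrArg _ (secE_map F a _ y)
  have hx' : amD A (U R (base F a)) (k + 1) (e (k + 1) x) = 0 := by
    rw [← key, show nerveD a A G (k + 1) x = 0 from hx, map_zero]
  obtain ⟨y, hy⟩ := (exact_d A (adequate_underline (base F a)) k _).1 hx'
  refine ⟨(e k).symm y, (e (k + 1)).injective ?_⟩
  rw [key, AddEquiv.apply_symm_apply, hy]

end Groth.Agent.H13Desc.EtSh
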