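import Groth.Agent.H13Desc.EtAssocSheaf.Fpqc
import Groth.Agent.H13Desc.Fpqc
import Groth.Prelude.Def_Desc
import Mathlib.CategoryTheory.Sites.Descent.DescentData

/-!
# Morphisms of quasi-coherent modules descend along fpqc coverings
-/

set_option autoImplicit false
set_option linter.style.haveILetI false
set_option backward.isDefEq.respectTransparency false
set_option backward.isDefEq.respectTransparency.types false

universe u

open CategoryTheory CategoryTheory.Limits AlgebraicGeometry Opposite TopologicalSpace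

noncomputable section

namespace Groth.Agent.H13Desc.EtSh

open Groth.Agent.H17.PullSect

variable {S : Scheme.{u}}

lemma mapComp'_inv_app (M : S.Modules) {U V : Scheme.{u}} (g : V ⟶ U) (u : U ⟶ S) (v : V ⟶ S) (e : g ≫ u = v)
    (pf : u.op.toLoc ≫ g.op.toLoc = v.op.toLoc) :
    (Desc.modPF.mapComp' u.op.toLoc g.op.toLoc v.op.toLoc pf).inv.toNatTrans.app M = tr M g u v e := by
  subst e
  rw [show Desc.modPF.mapComp' u.op.toLoc g.op.toLoc (g ≫ u).op.toLoc pf = Desc.modPF.mapComp u.op.toLoc g.op.toLoc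
    from Desc.modPF.mapComp'_eq_mapComp u.op.toLoc g.op.toLoc]
  simp only [tr, eqToHom_refl]
  erw [Category.comp_id]
  rfl

lemma mapComp'_hom_app (M : S.Modules) {U V : Scheme.{u}} (g : V ⟶ U) (u : U ⟶ S) (v : V ⟶ S) (e : g ≫ u = v)
    (pf : u.op.toLoc ≫ g.op.toLoc = v.op.toLoc) :
    ((Desc.modPF.mapComp' u.op.toLoc g.op.toLoc v.op.toLoc pf).hom.toNatTrans.app M :
        Inv M v ⟶ (Scheme.Modules.pullback g).obj (Inv M u)) = inv (tr M g u v e) := by
  have h := congr($((Desc.modPF.mapComp' u.op.toLoc g.op.toLoc v.op.toLoc pf).inv_hom_id).toNatTrans.app M)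
  let ψ : Inv M v ⟶ (Scheme.Modules.pullback g).obj (Inv M u) :=
    (Desc.modPF.mapComp' u.op.toLoc g.op.toLoc v.op.toLoc pf).hom.toNatTrans.app M
  have h' : tr M g u v e ≫ ψ = 𝟙 _ := by
    rw [← mapComp'_inv_app M g u v e pf]; exact h
  exact IsIso.eq_inv_of_hom_inv_id (f := tr M g u v e) (g := ψ) h'

/-- Pulling back a pulled back section. -/
lemma σ_pullSect (M : S.Modules) {U V : Scheme.{u}} (g : V ⟶ U) (u : U ⟶ S) (v : V ⟶ S) (e : g ≫ u = v)
    (W : S.Opens) (h : (⊤ : V.Opens) ≤ g ⁻¹ᵁ (u ⁻¹ᵁ W)) (h' : (⊤ : V.Opens) ≤ v ⁻¹ᵁ W) (m : Γ(M, W)) :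
    σ M g u v e (u ⁻¹ᵁ W) h (OmegaSh.pullSect u M W m) =
      (Inv M v).presheaf.map (homOfLE h').op (OmegaSh.pullSect v M W m) := by
  subst e
  rw [σ_apply, ← pullSect_comp g u M W m]
  simp only [tr, eqToHom_refl]
  erw [Category.comp_id]
  have n := congr($((Scheme.Modules.Hom.mapPresheaf ((Scheme.Modules.pullbackComp g u).inv.app M)).naturality
    (homOfLE h').op) (OmegaSh.pullSect (g ≫ u) M W m))
  have n' : ((Scheme.Modules.pullback g).obj (Inv M u)).presheaf.map (homOfLE h).op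
      (((Scheme.Modules.pullbackComp g u).inv.app M).app ((g ≫ u) ⁻¹ᵁ W) (OmegaSh.pullSect (g ≫ u) M W m)) =
      ((Scheme.Modules.pullbackComp g u).inv.app M).app ⊤
        ((Inv M (g ≫ u)).presheaf.map (homOfLE h').op (OmegaSh.pullSect (g ≫ u) M W m)) := n.symm
  rw [n']
  change (((Scheme.Modules.pullbackComp g u).inv.app M) ≫ ((Scheme.Modules.pullbackComp g u).hom.app M)).app ⊤ _ = _
  rw [Iso.inv_hom_id_app]
  rfl

/-- Morphisms of inverse images commute with restriction, after conjugation. -/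
lemma σ_hom {M N : S.Modules} {U V : Scheme.{u}} (g : V ⟶ U) (u : U ⟶ S) (v : V ⟶ S) (φ : Inv M u ⟶ Inv N u)
    (e : g ≫ u = v) (W : U.Opens) (h : (⊤ : V.Opens) ≤ g ⁻¹ᵁ W) (x : Γ(Inv M u, W)) :
    σ N g u v e W h (φ.app W x) =
      (inv (tr M g u v e) ≫ (Scheme.Modules.pullback g).map φ ≫ tr N g u v e).app ⊤ (σ M g u v e W h x) := by
  rw [σ_apply, σ_apply, pullSect_natural]
  let z := OmegaSh.pullSect g (Inv M u) W x
  have n := congr($((Scheme.Modules.Hom.mapPresheaf ((Scheme.Modules.pullback g).map φ)).naturality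
    (homOfLE h).op) z).symm
  have n' : ((Scheme.Modules.pullback g).obj (Inv N u)).presheaf.map (homOfLE h).op
      (((Scheme.Modules.pullback g).map φ).app (g ⁻¹ᵁ W) z) =
      ((Scheme.Modules.pullback g).map φ).app ⊤
        (((Scheme.Modules.pullback g).obj (Inv M u)).presheaf.map (homOfLE h).op z) := n
  rw [n']
  change ((Scheme.Modules.pullback g).map φ ≫ tr N g u v e).app ⊤ _ =
    (tr M g u v e ≫ inv (tr M g u v e) ≫ (Scheme.Modules.pullback g).map φ ≫ tr N g u v e).app ⊤ _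
  rw [IsIso.hom_inv_id_assoc]

/-- The canonical map on sections of inverse images. -/
def pm (M : S.Modules) {V : Scheme.{u}} (v : V ⟶ S) (W : S.Opens) (h : (⊤ : V.Opens) ≤ v ⁻¹ᵁ W) :
    Γ(M, W) →+ Γ(Inv M v, ⊤) :=
  (OmegaSh.pullSect v M W ≫ (Inv M v).presheaf.map (homOfLE h).op).hom

lemma σ_pm (M : S.Modules) {U V : Scheme.{u}} (g : V ⟶ U) (u : U ⟶ S) (v : V ⟶ S) (e : g ≫ u = v)
    (W : S.Opens) (h : (⊤ : U.Opens) ≤ u ⁻¹ᵁ W) (h' : (⊤ : V.Opens) ≤ v ⁻¹ᵁ W) (m : Γ(M, W)) :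
    rm M g u v e (pm M u W h m) = pm M v W h' m := by
  have h'' : (⊤ : V.Opens) ≤ g ⁻¹ᵁ (u ⁻¹ᵁ W) := le_trans (le_refl (g ⁻¹ᵁ (⊤ : U.Opens))) (g.preimage_mono h)
  exact (σ_res M g u v e h le_rfl h'' (OmegaSh.pullSect u M W m)).trans (σ_pullSect M g u v e W h'' h' m)

lemma bijective_pm (M : S.Modules) (W : S.Opens) :
    Function.Bijective (pm M W.ι W (fun z _ => z.2)) := by
  have h : (⊤ : W.toScheme.Opens) ≤ W.ι ⁻¹ᵁ W := fun z _ => z.2
  haveI : IsIso (homOfLE h) := ⟨homOfLE le_top, Subsingleton.elim _ _, Subsingleton.elim _ _⟩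
  exact (ConcreteCategory.bijective_of_isIso ((Inv M W.ι).presheaf.map (homOfLE h).op)).comp
    (H17.PullSect.bijective_pullSect W.ι M (W := W) (Scheme.Opens.opensRange_ι W).ge)

lemma pm_res (M : S.Modules) {V : Scheme.{u}} (v : V ⟶ S) {W W' : S.Opens} (i : W' ≤ W)
    (h : (⊤ : V.Opens) ≤ v ⁻¹ᵁ W') (m : Γ(M, W)) :
    pm M v W' h (M.presheaf.map (homOfLE i).op m) = pm M v W (h.trans (v.preimage_mono i)) m := by
  have n : OmegaSh.pullSect v M W' (M.presheaf.map (homOfLE i).op m) =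
      (Inv M v).presheaf.map (homOfLE (v.preimage_mono i)).op (OmegaSh.pullSect v M W m) :=
    congr($((Scheme.Modules.Hom.mapPresheaf ((Scheme.Modules.pullbackPushforwardAdjunction v).unit.app
      M)).naturality (homOfLE i).op) m)
  change (Inv M v).presheaf.map (homOfLE h).op (OmegaSh.pullSect v M W' (M.presheaf.map (homOfLE i).op m)) = _
  rw [n]
  exact (congr($((Inv M v).presheaf.map_comp (homOfLE (v.preimage_mono i)).op (homOfLE h).op)
    (OmegaSh.pullSect v M W m))).symm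

lemma pm_smul (M : S.Modules) {V : Scheme.{u}} (v : V ⟶ S) (W : S.Opens) (h : (⊤ : V.Opens) ≤ v ⁻¹ᵁ W)
    (r : Γ(S, W)) (m : Γ(M, W)) : pm M v W h (r • m) = v.appLE W ⊤ h r • pm M v W h m := by
  change (Inv M v).presheaf.map (homOfLE h).op (OmegaSh.pullSect v M W (r • m)) = _
  rw [OmegaSh.pullSect_smul, Scheme.Modules.map_smul]
  rfl

section Glue

variable {ι : Type u} {X : ι → Scheme.{u}} {f : ∀ i, X i ⟶ S}

/-- The restriction of a covering to an open. -/
abbrev resArr (f : ∀ i, X i ⟶ S) (W : S.Opens) (i : ι) : (f i ⁻¹ᵁ W).toScheme ⟶ W.toScheme := f i ∣_ W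

lemma mem_fpqc_res (hf : Presieve.ofArrows X f ∈ Scheme.fpqcPrecoverage S) (W : S.Opens) :
    Sieve.generate (Presieve.ofArrows (fun i => (f i ⁻¹ᵁ W).toScheme) (resArr f W)) ∈
      Scheme.fpqcTopology W.toScheme := by
  refine GrothendieckTopology.superset_covering _ ?_
    (Scheme.fpqcTopology.pullback_stable W.ι (Precoverage.generate_mem_toGrothendieck hf))
  rintro T h ⟨Y, k, _, ⟨i⟩, e⟩
  have hk : Set.range k ⊆ Set.range (f i ⁻¹ᵁ W).ι := by
    rw [Scheme.Opens.range_ι]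
    rintro _ ⟨z, rfl⟩
    show f i (k z) ∈ W
    rw [← Scheme.Hom.comp_apply, e, Scheme.Hom.comp_apply]
    exact (h z).2
  refine ⟨_, IsOpenImmersion.lift (f i ⁻¹ᵁ W).ι k hk, resArr f W i, Presieve.ofArrows.mk i, ?_⟩
  rw [← cancel_mono W.ι, Category.assoc, morphismRestrict_ι, IsOpenImmersion.lift_fac_assoc, e]

variable {M N : S.Modules} (φ : ∀ i, Inv M (f i) ⟶ Inv N (f i))

/-- The conjugate of the pullback of a member of a family of morphisms. -/
abbrev conj (i : ι) {Z : Scheme.{u}} (a : Z ⟶ X i) (q : Z ⟶ S) (ha : a ≫ f i = q) : Inv M q ⟶ Inv N q :=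
  inv (tr M a (f i) q ha) ≫ (Scheme.Modules.pullback a).map (φ i) ≫ tr N a (f i) q ha

/-- `n` is the value at `m` of a morphism restricting to the family. -/
def IsValue (W : S.Opens) (m : Γ(M, W)) (n : Γ(N, W)) : Prop :=
  ∀ i, OmegaSh.pullSect (f i) N W n = (φ i).app (f i ⁻¹ᵁ W) (OmegaSh.pullSect (f i) M W m)

variable (hf : Presieve.ofArrows X f ∈ Scheme.fpqcPrecoverage S)
  (hφ : ∀ (Z : Scheme.{u}) (q : Z ⟶ S) (i j : ι) (a : Z ⟶ X i) (b : Z ⟶ X j) (ha : a ≫ f i = q) (hb : b ≫ f j = q),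
    conj φ i a q ha = conj φ j b q hb)

include hf hφ in
theorem existsUnique_value [N.IsQuasicoherent] (W : S.Opens) (m : Γ(M, W)) :
    ∃! n, IsValue φ W m n := by
  classical
  let q : ∀ i, (f i ⁻¹ᵁ W).toScheme ⟶ S := fun i => (f i ⁻¹ᵁ W).ι ≫ f i
  have hq : ∀ i, resArr f W i ≫ W.ι = q i := fun i => morphismRestrict_ι (f i) W
  have hV : ∀ i, (⊤ : (f i ⁻¹ᵁ W).toScheme.Opens) ≤ (f i ⁻¹ᵁ W).ι ⁻¹ᵁ (f i ⁻¹ᵁ W) := fun i z _ => z.2
  let z : ∀ i, Γ(Inv N (q i), ⊤) := fun i =>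
    σ N (f i ⁻¹ᵁ W).ι (f i) (q i) rfl (f i ⁻¹ᵁ W) (hV i) ((φ i).app _ (OmegaSh.pullSect (f i) M W m))
  let x : ∀ i, Pair N (f i ⁻¹ᵁ W).toScheme := fun i => ⟨q i, z i⟩
  have hsheaf := (Presieve.isSheafFor_iff_generate _).2 (isSheaf_fpqc_pairs N _ (mem_fpqc_res hf W))
  rw [Presieve.isSheafFor_arrows_iff] at hsheaf
  obtain ⟨⟨p, w⟩, hw, hwu⟩ := hsheaf x fun i j T a b e => by
    have eq : a ≫ q i = b ≫ q j := by rw [← hq, ← hq, reassoc_of% e]
    refine Pair.ext' N eq ?_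
    change rm N (𝟙 T) _ _ _ (rm N a (q i) (a ≫ q i) rfl (z i)) = rm N b (q j) (b ≫ q j) rfl (z j)
    rw [rm_rm' N (Category.id_comp a) rfl _ (z i)]
    have key : ∀ (k : ι) (c : T ⟶ (f k ⁻¹ᵁ W).toScheme) (hc : c ≫ q k = b ≫ q j),
        ∃ hT : (⊤ : T.Opens) ≤ (b ≫ q j) ⁻¹ᵁ W, rm N c (q k) (b ≫ q j) hc (z k) =
          (conj φ k (c ≫ (f k ⁻¹ᵁ W).ι) (b ≫ q j) ((Category.assoc _ _ _).trans hc)).app ⊤
            (pm M (b ≫ q j) W hT m) := by
      intro k c hc
      have h1 : (⊤ : T.Opens) ≤ (c ≫ (f k ⁻¹ᵁ W).ι) ⁻¹ᵁ (f k ⁻¹ᵁ W) := fun y _ => (c y).2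
      have h2 : (⊤ : T.Opens) ≤ (b ≫ q j) ⁻¹ᵁ W := by
        rw [← hc]
        exact fun y _ => (c y).2
      refine ⟨h2, ?_⟩
      rw [rm_σ N (f k ⁻¹ᵁ W).ι (f k) (q k) rfl c (b ≫ q j) hc (f k ⁻¹ᵁ W) (hV k) h1, σ_hom,
        σ_pullSect M _ (f k) (b ≫ q j) _ W h1 h2 m]
      rfl
    obtain ⟨hT, h1⟩ := key i a eq
    obtain ⟨hT', h2⟩ := key j b rfl
    rw [h1, h2, hφ T (b ≫ q j) i j]
  have hι : (⊤ : W.toScheme.Opens) ≤ W.ι ⁻¹ᵁ W := fun y _ => y.2
  have hp : p = W.ι := by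
    have hy := (Presieve.isSheafFor_iff_generate _).2
      ((GrothendieckTopology.Subcanonical.isSheaf_of_isRepresentable (J := Scheme.fpqcTopology)
        (yoneda.obj S)) _ (mem_fpqc_res hf W))
    refine hy.isSeparatedFor.ext fun Y g hg => ?_
    obtain ⟨i⟩ := hg
    exact (congrArg Pair.p (hw i)).trans (hq i).symm
  subst hp
  obtain ⟨n, hn⟩ := (bijective_pm N W).2 w
  have hval : ∀ n' i, rm N (resArr f W i) W.ι (q i) (hq i) (pm N W.ι W hι n') =
      σ N (f i ⁻¹ᵁ W).ι (f i) (q i) rfl (f i ⁻¹ᵁ W) (hV i) (OmegaSh.pullSect (f i) N W n') := by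
    intro n' i
    have h2 : (⊤ : (f i ⁻¹ᵁ W).toScheme.Opens) ≤ q i ⁻¹ᵁ W := fun y _ => y.2
    exact (σ_pm N _ _ _ (hq i) W hι h2 n').trans (σ_pullSect N _ (f i) (q i) rfl W (hV i) h2 n').symm
  refine ⟨n, fun i => ?_, fun n' hn' => ?_⟩
  · refine (bijective_σ N (f i ⁻¹ᵁ W).ι (f i) (q i) rfl _ (Scheme.Opens.opensRange_ι _) (hV i)).1 ?_
    rw [← hval n i, hn]
    have h := Pair.rm_x_of_eq N (hw i) (𝟙 _) (q i) ((Category.id_comp _).trans (hq i))
    exact ((rm_rm' N (Category.id_comp (resArr f W i)) rfl _ w).symm.trans (h.trans (rm_id N _ _)))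
  · refine (bijective_pm N W).1 ?_
    rw [hn]
    have he := hwu ⟨W.ι, pm N W.ι W hι n'⟩ fun i => Pair.ext' N (hq i) ?_
    · exact (rm_id N _ _).symm.trans ((Pair.rm_x_of_eq N he (𝟙 _) W.ι (Category.id_comp _)).trans (rm_id N _ _))
    · refine (rm_rm' N (Category.id_comp (resArr f W i)) rfl _ (pm N W.ι W hι n')).trans ?_
      exact (hval n' i).trans (congrArg _ (hn' i))

variable [N.IsQuasicoherent]

/-- The glued value. -/
def value (W : S.Opens) (m : Γ(M, W)) : Γ(N, W) := (existsUnique_value φ hf hφ W m).choose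

lemma value_spec (W : S.Opens) (m : Γ(M, W)) : IsValue φ W m (value φ hf hφ W m) :=
  (existsUnique_value φ hf hφ W m).choose_spec.1

lemma value_eq (W : S.Opens) (m : Γ(M, W)) (n : Γ(N, W)) (h : IsValue φ W m n) : value φ hf hφ W m = n :=
  ((existsUnique_value φ hf hφ W m).choose_spec.2 n h).symm

lemma pullSect_res {A : Scheme.{u}} (g : A ⟶ S) (K : S.Modules) {W W' : S.Opens} (i : W' ≤ W) (m : Γ(K, W)) :
    OmegaSh.pullSect g K W' (K.presheaf.map (homOfLE i).op m) =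
      (Inv K g).presheaf.map (homOfLE (g.preimage_mono i)).op (OmegaSh.pullSect g K W m) :=
  congr($((Scheme.Modules.Hom.mapPresheaf ((Scheme.Modules.pullbackPushforwardAdjunction g).unit.app
    K)).naturality (homOfLE i).op) m)

/-- The glued morphism. -/
def glued : M ⟶ N :=
  ⟨PresheafOfModules.homMk
    { app := fun W => AddCommGrpCat.ofHom
        { toFun := value φ hf hφ W.unop
          map_zero' := value_eq φ hf hφ _ _ _ fun i => by simp only [map_zero]
          map_add' := fun a b => value_eq φ hf hφ _ _ _ fun i => by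
            rw [map_add, map_add, map_add, value_spec φ hf hφ _ a i, value_spec φ hf hφ _ b i] }
      naturality := fun W W' g => AddCommGrpCat.ext fun m => value_eq φ hf hφ _ _ _ fun i => by
        refine (pullSect_res (f i) N g.unop.le _).trans ?_
        refine (congrArg ((Inv N (f i)).presheaf.map (homOfLE ((f i).preimage_mono g.unop.le)).op)
          (value_spec φ hf hφ _ m i)).trans ?_
        refine Eq.trans ?_ (congrArg ((φ i).app _) (pullSect_res (f i) M g.unop.le m)).symm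
        exact (congr($((φ i).mapPresheaf.naturality (homOfLE ((f i).preimage_mono g.unop.le)).op)
          (OmegaSh.pullSect (f i) M W.unop m))).symm }
    fun W r m => value_eq φ hf hφ _ _ _ fun i => by
      rw [OmegaSh.pullSect_smul, OmegaSh.pullSect_smul, Scheme.Modules.Hom.app_smul]
      exact congrArg _ (value_spec φ hf hφ _ m i)⟩

lemma pullback_map_glued (i : ι) : (Scheme.Modules.pullback (f i)).map (glued φ hf hφ) = φ i := by
  apply ((Scheme.Modules.pullbackPushforwardAdjunction (f i)).homEquiv _ _).injective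
  refine Scheme.Modules.hom_ext _ _ fun W => AddCommGrpCat.ext fun m => ?_
  rw [Adjunction.homEquiv_unit, Adjunction.homEquiv_unit]
  exact (pullSect_natural (f i) (glued φ hf hφ) W m).symm.trans (value_spec φ hf hφ W m i)

include hf in
/-- Morphisms agree if their inverse images agree. -/
lemma eq_of_pullback_map (ψ ψ' : M ⟶ N)
    (h : ∀ i, (Scheme.Modules.pullback (f i)).map ψ = (Scheme.Modules.pullback (f i)).map ψ')
    (hψ : ∀ (Z : Scheme.{u}) (q : Z ⟶ S) (i j : ι) (a : Z ⟶ X i) (b : Z ⟶ X j) (ha : a ≫ f i = q)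
      (hb : b ≫ f j = q), conj (fun i => (Scheme.Modules.pullback (f i)).map ψ) i a q ha =
        conj (fun i => (Scheme.Modules.pullback (f i)).map ψ) j b q hb) : ψ = ψ' := by
  refine Scheme.Modules.hom_ext _ _ fun W => AddCommGrpCat.ext fun m => ?_
  refine (existsUnique_value (fun i => (Scheme.Modules.pullback (f i)).map ψ) hf hψ W m).unique
    (fun i => pullSect_natural (f i) ψ W m) fun i => ?_
  exact (pullSect_natural (f i) ψ' W m).trans
    (congrArg (fun χ => Scheme.Modules.Hom.app χ (f i ⁻¹ᵁ W) (OmegaSh.pullSect (f i) M W m)) (h i).symm)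

end Glue

end Groth.Agent.H13Desc.EtSh
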