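import Groth.Agent.H17.PullSectLocal
import Groth.Agent.H8Props.RelFP.PullSections
import Groth.Agent.H14QCoh.BCMaps
import Mathlib.Tactic.IrreducibleDef

/-!
# Pulling sections of inverse images back along morphisms over the base
-/

set_option autoImplicit false
set_option backward.isDefEq.respectTransparency false
set_option backward.isDefEq.respectTransparency.types false

universe u

open CategoryTheory CategoryTheory.Limits AlgebraicGeometry Opposite

noncomputable section

namespace Groth.Agent.H13Desc.EtSh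

open Groth.Agent.H17.PullSect

variable {S : Scheme.{u}} (F : S.Modules) {U V T : Scheme.{u}}

/-- The inverse image along a structure morphism. -/
abbrev Inv (u : U ⟶ S) : U.Modules := (Scheme.Modules.pullback u).obj F

/-- The transition between inverse images of a commutative triangle. -/
def tr (g : V ⟶ U) (u : U ⟶ S) (v : V ⟶ S) (e : g ≫ u = v) :
    (Scheme.Modules.pullback g).obj (Inv F u) ⟶ Inv F v :=
  (Scheme.Modules.pullbackComp g u).hom.app F ≫ eqToHom (congrArg (fun h => Inv F h) e)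

instance (g : V ⟶ U) (u : U ⟶ S) (v : V ⟶ S) (e : g ≫ u = v) : IsIso (tr F g u v e) := by
  unfold tr; infer_instance

/-- A section over an open containing the image gives a global section of the inverse image. -/
irreducible_def σ (g : V ⟶ U) (u : U ⟶ S) (v : V ⟶ S) (e : g ≫ u = v) (W : U.Opens)
    (h : (⊤ : V.Opens) ≤ g ⁻¹ᵁ W) : Γ(Inv F u, W) →+ Γ(Inv F v, ⊤) :=
  (OmegaSh.pullSect g (Inv F u) W ≫ ((Scheme.Modules.pullback g).obj (Inv F u)).presheaf.map (homOfLE h).op ≫
    (tr F g u v e).app ⊤).hom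

/-- Restriction of global sections. -/
abbrev rm (g : V ⟶ U) (u : U ⟶ S) (v : V ⟶ S) (e : g ≫ u = v) : Γ(Inv F u, ⊤) →+ Γ(Inv F v, ⊤) :=
  σ F g u v e ⊤ le_rfl

variable (g : V ⟶ U) (u : U ⟶ S) (v : V ⟶ S) (e : g ≫ u = v)

lemma σ_apply (W : U.Opens) (h : (⊤ : V.Opens) ≤ g ⁻¹ᵁ W) (t : Γ(Inv F u, W)) :
    σ F g u v e W h t = (tr F g u v e).app ⊤
      (((Scheme.Modules.pullback g).obj (Inv F u)).presheaf.map (homOfLE h).op
        (OmegaSh.pullSect g (Inv F u) W t)) := by rw [σ_def]; rfl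

lemma σ_congr {g' : V ⟶ U} (hg : g = g') (W : U.Opens) (h : (⊤ : V.Opens) ≤ g ⁻¹ᵁ W)
    (h' : (⊤ : V.Opens) ≤ g' ⁻¹ᵁ W) (t : Γ(Inv F u, W)) :
    σ F g u v e W h t = σ F g' u v (hg ▸ e) W h' t := by subst hg; rfl

lemma σ_res {W W' : U.Opens} (i : W' ≤ W) (h : (⊤ : V.Opens) ≤ g ⁻¹ᵁ W') (h' : (⊤ : V.Opens) ≤ g ⁻¹ᵁ W)
    (t : Γ(Inv F u, W)) :
    σ F g u v e W' h ((Inv F u).presheaf.map (homOfLE i).op t) = σ F g u v e W h' t := by
  rw [σ_apply, σ_apply]
  refine congrArg ((tr F g u v e).app ⊤) ?_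
  have n := congr($((Scheme.Modules.Hom.mapPresheaf ((Scheme.Modules.pullbackPushforwardAdjunction g).unit.app
    (Inv F u))).naturality (homOfLE i).op) t)
  have n' : OmegaSh.pullSect g (Inv F u) W' ((Inv F u).presheaf.map (homOfLE i).op t) =
      ((Scheme.Modules.pullback g).obj (Inv F u)).presheaf.map (homOfLE (g.preimage_mono i)).op
        (OmegaSh.pullSect g (Inv F u) W t) := n
  rw [n']
  exact (congr($(((Scheme.Modules.pullback g).obj (Inv F u)).presheaf.map_comp _ _)
    (OmegaSh.pullSect g (Inv F u) W t))).symm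

lemma σ_smul (W : U.Opens) (h : (⊤ : V.Opens) ≤ g ⁻¹ᵁ W) (r : Γ(U, W)) (t : Γ(Inv F u, W)) :
    σ F g u v e W h (r • t) = g.appLE W ⊤ h r • σ F g u v e W h t := by
  rw [σ_apply, σ_apply, OmegaSh.pullSect_smul, Scheme.Modules.map_smul, Scheme.Modules.Hom.app_smul]
  rfl

/-- Restrictions compose. -/
theorem rm_σ {T : Scheme.{u}} (g' : T ⟶ V) (t : T ⟶ S) (e' : g' ≫ v = t) (W : U.Opens)
    (h : (⊤ : V.Opens) ≤ g ⁻¹ᵁ W) (h' : (⊤ : T.Opens) ≤ (g' ≫ g) ⁻¹ᵁ W) (x : Γ(Inv F u, W)) :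
    rm F g' v t e' (σ F g u v e W h x) =
      σ F (g' ≫ g) u t (by rw [Category.assoc, e, e']) W h' x := by
  subst e
  subst e'
  let M := Inv F u
  let A := (Scheme.Modules.pullback g).obj M
  let y := OmegaSh.pullSect g M W x
  let c : A ⟶ Inv F (g ≫ u) := tr F g u (g ≫ u) rfl
  let c' : (Scheme.Modules.pullback g').obj (Inv F (g ≫ u)) ⟶ Inv F (g' ≫ g ≫ u) :=
    tr F g' (g ≫ u) _ rfl
  let c'' : (Scheme.Modules.pullback (g' ≫ g)).obj M ⟶ Inv F (g' ≫ g ≫ u) :=
    tr F (g' ≫ g) u _ (Category.assoc _ _ _)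
  have hc : ((Scheme.Modules.pullbackComp g' g).inv.app M) ≫ (Scheme.Modules.pullback g').map c ≫ c' = c'' := by
    have as := congr($(Scheme.Modules.pseudofunctor_associativity g' g u).app F)
    simp only [NatTrans.comp_app, Functor.whiskerRight_app, Functor.whiskerLeft_app, Functor.associator_hom_app,
      eqToHom_app] at as
    erw [Category.id_comp] at as
    simp only [c, c', c'', tr, eqToHom_refl]
    erw [Category.comp_id, Category.comp_id]
    rw [← cancel_epi ((Scheme.Modules.pullbackComp g' g).hom.app M)]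
    rw [Iso.hom_inv_id_app_assoc, ← cancel_epi ((Scheme.Modules.pullback g').map
      ((Scheme.Modules.pullbackComp g u).inv.app F)), ← Functor.map_comp_assoc, Iso.inv_hom_id_app]
    erw [CategoryTheory.Functor.map_id, Category.id_comp]
    rw [← cancel_epi ((Scheme.Modules.pullbackComp g' (g ≫ u)).inv.app F), Iso.inv_hom_id_app]
    erw [Category.comp_id]
    exact as.symm
  rw [σ_apply, σ_apply, σ_apply]
  change c'.app ⊤ (((Scheme.Modules.pullback g').obj (Inv F (g ≫ u))).presheaf.map (homOfLE le_rfl).op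
    (OmegaSh.pullSect g' (Inv F (g ≫ u)) ⊤ (c.app ⊤ (A.presheaf.map (homOfLE h).op y)))) = _
  have k1 := pullSect_natural g' c ⊤ (A.presheaf.map (homOfLE h).op y)
  have n2 : OmegaSh.pullSect g' A ⊤ (A.presheaf.map (homOfLE h).op y) =
      ((Scheme.Modules.pullback g').obj A).presheaf.map (homOfLE (g'.preimage_mono h)).op
        (OmegaSh.pullSect g' A (g ⁻¹ᵁ W) y) :=
    congr($((Scheme.Modules.Hom.mapPresheaf ((Scheme.Modules.pullbackPushforwardAdjunction g').unit.app
      A)).naturality (homOfLE h).op) y)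
  rw [k1, n2]
  have k2 := pullSect_comp g' g M W x
  change c'.app ⊤ (((Scheme.Modules.pullback g').obj (Inv F (g ≫ u))).presheaf.map (homOfLE le_rfl).op
    (((Scheme.Modules.pullback g').map c).app ⊤ (((Scheme.Modules.pullback g').obj A).presheaf.map
      (homOfLE (g'.preimage_mono h)).op (OmegaSh.pullSect g' A (g ⁻¹ᵁ W) (OmegaSh.pullSect g M W x))))) =
    c''.app ⊤ (((Scheme.Modules.pullback (g' ≫ g)).obj M).presheaf.map (homOfLE h').op
      (OmegaSh.pullSect (g' ≫ g) M W x))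
  rw [← k2, ← hc]
  simp only [homOfLE_refl, op_id, CategoryTheory.Functor.map_id]
  change c'.app ⊤ (((Scheme.Modules.pullback g').map c).app ⊤ _) =
    c'.app ⊤ (((Scheme.Modules.pullback g').map c).app ⊤ _)
  refine congrArg _ (congrArg _ ?_)
  exact (congr($((Scheme.Modules.Hom.mapPresheaf ((Scheme.Modules.pullbackComp g' g).inv.app M)).naturality
    (homOfLE h').op) (OmegaSh.pullSect (g' ≫ g) M W x))).symm

lemma bijective_σ [IsOpenImmersion g] (W : U.Opens) (hW : g.opensRange = W) (h : (⊤ : V.Opens) ≤ g ⁻¹ᵁ W) :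
    Function.Bijective (σ F g u v e W h) := by
  have h1 := bijective_pullSect g (Inv F u) (W := W) hW.ge
  have heq : g ⁻¹ᵁ W = ⊤ := top_le_iff.mp h
  have h2 : Function.Bijective (((Scheme.Modules.pullback g).obj (Inv F u)).presheaf.map (homOfLE h).op) := by
    haveI : IsIso (homOfLE h) := ⟨homOfLE heq.le, Subsingleton.elim _ _, Subsingleton.elim _ _⟩
    exact ConcreteCategory.bijective_of_isIso _
  have h3 := bijective_app (tr F g u v e) (⊤ : V.Opens)
  rw [σ_def]
  exact (h3.comp h2).comp h1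

lemma rm_smul (r : Γ(U, ⊤)) (s : Γ(Inv F u, ⊤)) : rm F g u v e (r • s) = g.appTop r • rm F g u v e s := by
  rw [σ_smul]
  congr 1
  exact congr($((Scheme.Hom.app_eq_appLE g (U := ⊤)).symm) r)

lemma rm_rm {T : Scheme.{u}} (g' : T ⟶ V) (t : T ⟶ S) (e' : g' ≫ v = t) (x : Γ(Inv F u, ⊤)) :
    rm F g' v t e' (rm F g u v e x) = rm F (g' ≫ g) u t (by rw [Category.assoc, e, e']) x :=
  rm_σ F g u v e g' t e' ⊤ le_rfl le_rfl x

lemma rm_id (u : U ⟶ S) (x : Γ(Inv F u, ⊤)) : rm F (𝟙 U) u u (Category.id_comp u) x = x := by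
  have hb : Function.Bijective (rm F (𝟙 U) u u (Category.id_comp u)) :=
    bijective_σ F _ u u _ ⊤ (Scheme.Hom.opensRange_of_isIso _) le_rfl
  apply hb.1
  refine (rm_rm F (𝟙 U) u u (Category.id_comp u) (𝟙 U) u (Category.id_comp u) x).trans ?_
  exact σ_congr F _ u u _ (Category.id_comp (𝟙 U)) ⊤ le_rfl le_rfl x

/-- Global sections over affine schemes are base changes. -/
theorem isBC_rm [F.IsQuasicoherent] [IsAffine U] [IsAffine V] :
    H14QCoh.IsBC g.appTop.hom (rm F g u v e) := by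
  have hM : Coh.IsQCoh (Inv F u) := H29Fitt.isQCoh_pullback u F inferInstance
  let M := Inv F u
  have hle : (⊤ : V.Opens) ≤ g ⁻¹ᵁ ⊤ := le_rfl
  have key := H8Props.PullSections.isBaseChange_pullLin g M hle hM (isAffineOpen_top U) (isAffineOpen_top V)
  have happ : g.appLE ⊤ ⊤ hle = g.appTop := (Scheme.Hom.app_eq_appLE g).symm
  let p : Γ(M, ⊤) →+ Γ((Scheme.Modules.pullback g).obj M, ⊤) :=
    (OmegaSh.pullSect g M ⊤ ≫ ((Scheme.Modules.pullback g).obj M).presheaf.map (homOfLE hle).op).hom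
  have hp : H14QCoh.IsBC (g.appLE ⊤ ⊤ hle).hom p := by
    refine ⟨fun r m => ?_, fun G hG => ?_⟩
    · letI := Module.compHom Γ((Scheme.Modules.pullback g).obj M, (⊤ : V.Opens)) (g.appLE ⊤ ⊤ hle).hom
      exact (H8Props.PullSections.pullLin g M hle).map_smul r m
    · letI := Module.compHom Γ((Scheme.Modules.pullback g).obj M, (⊤ : V.Opens)) (g.appLE ⊤ ⊤ hle).hom
      have : G = H8Props.PullSections.pullLin g M hle := LinearMap.ext fun m => hG m
      rw [this]
      exact key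
  rw [happ] at hp
  let c := tr F g u v e
  let l : Γ((Scheme.Modules.pullback g).obj M, (⊤ : V.Opens)) →ₗ[Γ(V, ⊤)] Γ(Inv F v, ⊤) :=
    { toFun := c.app ⊤, map_add' := map_add _, map_smul' := fun r m => c.app_smul r m }
  rw [rm, σ_def]
  exact hp.comp_equiv l (bijective_app c ⊤)

end Groth.Agent.H13Desc.EtSh
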