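import Groth.Agent.H13Desc.EtAssocSheaf.Pull
import Groth.Agent.H18Et.AffineCriterion
import Groth.Agent.H14QCoh.Amitsur
import Groth.Agent.H10Coh.SchemeH
import Groth.Prelude.Def_EtAssoc2
import Mathlib.AlgebraicGeometry.Morphisms.Flat

/-!
# The sheaf on the small étale site attached to a quasi-coherent module
-/

set_option autoImplicit false
set_option linter.style.haveILetI false
set_option backward.isDefEq.respectTransparency false
set_option backward.isDefEq.respectTransparency.types false

universe u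

open CategoryTheory CategoryTheory.Limits AlgebraicGeometry Opposite TopologicalSpace
open scoped TensorProduct

noncomputable section

namespace Groth.Agent.H13Desc.EtSh

open Groth.Agent.H18Et.AffineCriterion (openObj openHom mem_zariski_iff etale_of_hom)

variable {S : Scheme.{u}} (F : S.Modules)

/-- Restriction along a morphism of étale schemes over the base. -/
abbrev rmE {U V : S.Etale} (g : V ⟶ U) : Γ(Inv F U.hom, ⊤) →+ Γ(Inv F V.hom, ⊤) :=
  rm F g.left U.hom V.hom (MorphismProperty.Over.w g)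

lemma rmE_id (U : S.Etale) (x : Γ(Inv F U.hom, ⊤)) : rmE F (𝟙 U) x = x := rm_id F U.hom x

lemma rmE_comp {U V T : S.Etale} (g : V ⟶ U) (h : T ⟶ V) (x : Γ(Inv F U.hom, ⊤)) :
    rmE F h (rmE F g x) = rmE F (h ≫ g) x := rm_rm F g.left U.hom V.hom _ h.left T.hom _ x

lemma resMap_eq {U V : S.Etale} (g : V ⟶ U) (x : Γ(Inv F U.hom, ⊤)) :
    EtAssoc.resMap F g x = rmE F g x := by rw [σ_apply]; rfl

/-- The presheaf `U ↦ Γ(U, u^* F)`, one universe up. -/
def psh : S.Etaleᵒᵖ ⥤ AddCommGrpCat.{u + 1} where
  obj U := AddCommGrpCat.of (ULift.{u + 1} Γ(Inv F U.unop.hom, ⊤))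
  map g := AddCommGrpCat.ofHom
    (AddEquiv.ulift.symm.toAddMonoidHom.comp ((rmE F g.unop).comp AddEquiv.ulift.toAddMonoidHom))
  map_id U := by
    ext x
    exact rmE_id F U.unop x.down
  map_comp g h := by
    ext x
    exact (rmE_comp F g.unop h.unop x.down).symm

/-- Its underlying presheaf of types. -/
abbrev pshT : S.Etaleᵒᵖ ⥤ Type (u + 1) := psh F ⋙ CategoryTheory.forget AddCommGrpCat.{u + 1}

variable {U : S.Etale}

/-- The image of an open immersion, as an open. -/
lemma top_le_range {Y : Scheme.{u}} (f : Y ⟶ U.left) [IsOpenImmersion f] :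
    (⊤ : Y.Opens) ≤ f ⁻¹ᵁ f.opensRange := fun z _ => ⟨z, rfl⟩

/-- Sections of an inverse image agree if their restrictions along jointly surjective open immersions do. -/
theorem eq_of_cover {ι : Type*} (Y : ι → S.Etale) (f : ∀ i, Y i ⟶ U) [∀ i, IsOpenImmersion (f i).left]
    (hc : ∀ x : U.left, ∃ i, x ∈ Set.range (f i).left) (s t : Γ(Inv F U.hom, ⊤))
    (h : ∀ i, rmE F (f i) s = rmE F (f i) t) : s = t := by
  classical
  choose k hk using hc
  refine TopCat.Sheaf.eq_of_locally_eq' ((H10Coh.shF U.left).obj (Inv F U.hom))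
    (fun x => (f (k x)).left.opensRange) ⊤ (fun x => homOfLE le_top)
    (fun x _ => Opens.mem_iSup.mpr ⟨x, hk x⟩) s t fun x => ?_
  refine (bijective_σ F (f (k x)).left U.hom (Y (k x)).hom (MorphismProperty.Over.w _) _ rfl
    (top_le_range _)).1 ?_
  exact (σ_res F _ _ _ _ le_top _ le_rfl s).trans ((h (k x)).trans (σ_res F _ _ _ _ le_top _ le_rfl t).symm)

/-- Compatible sections on jointly surjective open immersions glue. -/
theorem exists_glue {ι : Type*} (Y : ι → S.Etale) (f : ∀ i, Y i ⟶ U) [∀ i, IsOpenImmersion (f i).left]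
    (hc : ∀ x : U.left, ∃ i, x ∈ Set.range (f i).left) (t : ∀ i, Γ(Inv F (Y i).hom, ⊤))
    (h : ∀ i j (T : S.Etale) (a : T ⟶ Y i) (b : T ⟶ Y j), a ≫ f i = b ≫ f j → rmE F a (t i) = rmE F b (t j)) :
    ∃ s : Γ(Inv F U.hom, ⊤), ∀ i, rmE F (f i) s = t i := by
  classical
  choose k hk using hc
  let W : U.left → U.left.Opens := fun x => (f (k x)).left.opensRange
  choose r hr using fun x => (bijective_σ F (f (k x)).left U.hom (Y (k x)).hom (MorphismProperty.Over.w _) _ rfl
    (top_le_range _)).2 (t (k x))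
  have hcomp : TopCat.Presheaf.IsCompatible ((H10Coh.shF U.left).obj (Inv F U.hom)).1 W r := by
    intro x y
    let O : U.left.Opens := W x ⊓ W y
    let a : openObj U O ⟶ Y (k x) := MorphismProperty.Over.homMk
      (IsOpenImmersion.lift (f (k x)).left O.ι (by
        refine (Scheme.Opens.range_ι O).subset.trans ?_
        exact fun z hz => hz.1))
      (by
        change _ = O.ι ≫ U.hom
        rw [← MorphismProperty.Over.w (f (k x)), IsOpenImmersion.lift_fac_assoc]) trivial
    let b : openObj U O ⟶ Y (k y) := MorphismProperty.Over.homMk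
      (IsOpenImmersion.lift (f (k y)).left O.ι (by
        refine (Scheme.Opens.range_ι O).subset.trans ?_
        exact fun z hz => hz.2))
      (by
        change _ = O.ι ≫ U.hom
        rw [← MorphismProperty.Over.w (f (k y)), IsOpenImmersion.lift_fac_assoc]) trivial
    have ha : a ≫ f (k x) = openHom U O :=
      MorphismProperty.Over.Hom.ext (IsOpenImmersion.lift_fac _ _ _)
    have hb : b ≫ f (k y) = openHom U O :=
      MorphismProperty.Over.Hom.ext (IsOpenImmersion.lift_fac _ _ _)
    have hO : (⊤ : O.toScheme.Opens) ≤ O.ι ⁻¹ᵁ O := fun z _ => z.2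
    refine (bijective_σ F O.ι U.hom (openObj U O).hom rfl O (Scheme.Opens.opensRange_ι O) hO).1 ?_
    have key : ∀ (z : U.left) (c : openObj U O ⟶ Y (k z)) (hc : c ≫ f (k z) = openHom U O) (hOz : O ≤ W z),
        σ F O.ι U.hom (openObj U O).hom rfl O hO ((Inv F U.hom).presheaf.map (homOfLE hOz).op (r z)) =
          rmE F c (t (k z)) := by
      intro z c hc hOz
      have e1 : c.left ≫ (f (k z)).left = O.ι :=
        congrArg (fun m : openObj U O ⟶ U => m.left) hc
      have h1 : (⊤ : O.toScheme.Opens) ≤ O.ι ⁻¹ᵁ W z := fun w _ => hOz w.2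
      rw [← hr z, rm_σ F (f (k z)).left U.hom (Y (k z)).hom _ c.left (openObj U O).hom _ (W z)
        (top_le_range _) (by rw [e1]; exact h1) (r z), σ_res F _ _ _ _ hOz _ h1]
      exact σ_congr F _ _ _ _ e1.symm _ _ _ _
    exact (key x a ha inf_le_left).trans ((h _ _ _ a b (ha.trans hb.symm)).trans (key y b hb inf_le_right).symm)
  obtain ⟨s, hs, -⟩ := TopCat.Sheaf.existsUnique_gluing' ((H10Coh.shF U.left).obj (Inv F U.hom)) W ⊤
    (fun x => homOfLE le_top) (fun x _ => Opens.mem_iSup.mpr ⟨x, hk x⟩) r hcomp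
  refine ⟨s, fun i => ?_⟩
  have hbase : ∀ x, rmE F (f (k x)) s = t (k x) := fun x => by
    rw [← hr x]
    exact (σ_res F _ _ _ _ le_top _ le_rfl s).symm.trans (congrArg _ (hs x))
  haveI := fun x : U.left => etale_of_hom (f (k x))
  haveI := etale_of_hom (f i)
  let T : U.left → S.Etale := fun x => MorphismProperty.Over.mk ⊤
    (pullback.fst (f i).left (f (k x)).left ≫ (Y i).hom)
    (haveI : Etale (Y i).hom := (Y i).prop; inferInstanceAs (Etale (_ ≫ _)))
  let p : ∀ x, T x ⟶ Y i := fun x => MorphismProperty.Over.homMk (pullback.fst _ _) rfl trivial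
  haveI : ∀ x, IsOpenImmersion (p x).left := fun x =>
    inferInstanceAs (IsOpenImmersion (pullback.fst (f i).left (f (k x)).left))
  let q : ∀ x, T x ⟶ Y (k x) := fun x => MorphismProperty.Over.homMk (pullback.snd _ _) (by
    change _ = pullback.fst _ _ ≫ (Y i).hom
    rw [← MorphismProperty.Over.w (f i), ← MorphismProperty.Over.w (f (k x)), pullback.condition_assoc]) trivial
  have hpq : ∀ x, p x ≫ f i = q x ≫ f (k x) := fun x => MorphismProperty.Over.Hom.ext pullback.condition
  refine eq_of_cover F T p (fun z => ?_) _ _ fun x => ?_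
  · obtain ⟨w, hw⟩ := hk ((f i).left z)
    obtain ⟨v, hv, -⟩ := Scheme.Pullback.exists_preimage_pullback z w hw.symm
    exact ⟨(f i).left z, v, hv⟩
  · rw [rmE_comp, hpq, ← rmE_comp, hbase]
    exact (h _ _ _ (p x) (q x) (hpq x)).symm

theorem isSheaf_zariski :
    Presieve.IsSheaf (S.smallGrothendieckTopology (P := @IsOpenImmersion)) (pshT F) := by
  intro U R hR
  classical
  choose Y f y hRf hf hy using mem_zariski_iff.1 hR
  haveI := hf
  rw [← Presieve.isSeparatedFor_and_exists_isAmalgamation_iff_isSheafFor]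
  refine ⟨fun x a b ha hb => ?_, fun x hx => ?_⟩
  · refine ULift.ext _ _ (eq_of_cover F Y f (fun z => ⟨z, y z, hy z⟩) _ _ fun z => ?_)
    exact congrArg ULift.down ((ha _ (hRf z)).trans (hb _ (hRf z)).symm)
  · obtain ⟨s, hs⟩ := exists_glue F Y f (fun z => ⟨z, y z, hy z⟩) (fun z => (x (f z) (hRf z)).down)
      fun i j T a b e => congrArg ULift.down (hx a b (hRf i) (hRf j) e)
    refine ⟨ULift.up s, fun Z g hg => ULift.ext _ _ ?_⟩
    haveI := fun z : U.left => etale_of_hom (f z)
    haveI := etale_of_hom g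
    let T : U.left → S.Etale := fun z => MorphismProperty.Over.mk ⊤
      (pullback.fst g.left (f z).left ≫ Z.hom)
      (haveI : Etale Z.hom := Z.prop; inferInstanceAs (Etale (_ ≫ _)))
    let p : ∀ z, T z ⟶ Z := fun z => MorphismProperty.Over.homMk (pullback.fst _ _) rfl trivial
    haveI : ∀ z, IsOpenImmersion (p z).left := fun z =>
      inferInstanceAs (IsOpenImmersion (pullback.fst g.left (f z).left))
    let q : ∀ z, T z ⟶ Y z := fun z => MorphismProperty.Over.homMk (pullback.snd _ _) (by
      change _ = pullback.fst _ _ ≫ Z.hom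
      rw [← MorphismProperty.Over.w g, ← MorphismProperty.Over.w (f z), pullback.condition_assoc]) trivial
    have hpq : ∀ z, p z ≫ g = q z ≫ f z := fun z => MorphismProperty.Over.Hom.ext pullback.condition
    refine eq_of_cover F T p (fun z => ?_) _ _ fun z => ?_
    · obtain ⟨v, hv, -⟩ := Scheme.Pullback.exists_preimage_pullback z (y (g.left z)) (hy (g.left z)).symm
      exact ⟨g.left z, v, hv⟩
    · change rmE F (p z) (rmE F g s) = rmE F (p z) (x g hg).down
      rw [rmE_comp, hpq, ← rmE_comp, hs z]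
      exact (congrArg ULift.down (hx (p z) (q z) hg (hRf z) (hpq z))).symm

end Groth.Agent.H13Desc.EtSh
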