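import Groth.Agent.H13Desc.EtAssocSheaf.Compare
import Groth.Agent.H22Alg.RegSheaf

/-!
# Higher direct images to the Zariski site of the associated étale sheaf vanish
-/

set_option autoImplicit false
set_option linter.style.haveILetI false
set_option backward.isDefEq.respectTransparency false
set_option backward.isDefEq.respectTransparency.types false

universe u

open CategoryTheory CategoryTheory.Limits AlgebraicGeometry Opposite MorphismProperty

noncomputable section

namespace Groth.Agent.H13Desc.EtSh

open Groth.Agent.H9Et Groth.Agent.H02CA.Adq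

variable {S : Scheme.{u}} [EtZar.ZarCont S] [(EtZar.resZar S).Additive]

theorem isZero_rightDerived_resZar (q : ℕ) : ∀ F : BigSite.Ab KE S, GoodSheaf F →
    IsZero (((EtZar.resZar S).rightDerived (q + 1)).obj ((BigSite.resEt KE S).obj F)) := by
  haveI := (H1DFun.zarAdj S).rightAdjoint_preservesLimits.{0, 0}
  haveI : PreservesFiniteLimits (EtZar.resZar S) := PreservesLimitsOfSize.preservesFiniteLimits _
  induction q with
  | zero =>
    intro F hF
    let T := ShortComplex.mk (Injective.ι F) (cokernel.π (Injective.ι F)) (cokernel.condition _)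
    have hT : T.ShortExact := { exact := ShortComplex.exact_of_g_is_cokernel _ (cokernelIsCokernel _) }
    let T' := T.map (BigSite.resEt KE S)
    haveI : Injective T'.X₂ := H13Desc.BigExact.injective_resEt KE (Injective.under F)
    have hepi : Epi ((EtZar.resZar S).map T'.g) :=
      (shortExact_resZar flat_of_etale hT hF).epi_g
    exact H22Alg.RegSheaf.isZero_one (EtZar.resZar S) (shortExact_resEt hT hF)
      (Functor.isZero_rightDerived_obj_injective_succ _ 0 T'.X₂) hepi
  | succ q ih =>
    intro F hF
    let T := ShortComplex.mk (Injective.ι F) (cokernel.π (Injective.ι F)) (cokernel.condition _)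
    have hT : T.ShortExact := { exact := ShortComplex.exact_of_g_is_cokernel _ (cokernelIsCokernel _) }
    let T' := T.map (BigSite.resEt KE S)
    haveI : Injective T'.X₂ := H13Desc.BigExact.injective_resEt KE (Injective.under F)
    exact H22Alg.RegSheaf.isZero_left (EtZar.resZar S) (shortExact_resEt hT hF) (q + 1)
      (ih T.X₃ (goodSheaf_quotient flat_of_etale hT hF fun R a A _ _ _ => nerveExact_of_injective_sheaf a A _))
      (Functor.isZero_rightDerived_obj_injective_succ _ (q + 1) T'.X₂)

theorem isZero_rightDerived_resZar_assoc (F : S.Modules) [F.IsQuasicoherent] (G : EtCoh.Ab S)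
    (hG : EtAssoc.IsAssoc F G) (q : ℕ) : IsZero (((EtZar.resZar S).rightDerived (q + 1)).obj G) := by
  obtain ⟨e, he⟩ := hG
  exact (isZero_rightDerived_resZar q _ (goodSheaf_bigSheaf F)).of_iso
    (((EtZar.resZar S).rightDerived (q + 1)).mapIso (resEtIso F G e he))

end Groth.Agent.H13Desc.EtSh
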